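import Cfsg.Agent.MinIndexForm.SUF.Moved
import Cfsg.Agent.MinIndexForm.SUE.Pair

/-!
A moved point with a triangular Levi image yields a point with a non-trivial central part.
-/

set_option autoImplicit false

namespace Cfsg.Agent.MinIndexForm.SUF

open Cfsg.Agent.Classical Cfsg.Agent.MinIndexForm.SU Module

universe uF uV
variable {F : Type uF} {V : Type uV} [Field F] [AddCommGroup V] [Module F V] {θ : F →+* F}
  {B : V →ₛₗ[θ] V →ₗ[F] F} [Finite F] [FiniteDimensional F V]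

theorem sh_conjS (τ : Fr B) {K : Subgroup (Herm.suG B)} {x u : τ.W} {d c : F}
    (hd : d + θ d = -B (x : V) (x : V)) (hc : c + θ c = -B (u : V) (u : V)) :
    τ.sh u c hc ∈ conjS (τ.sh x d hd)⁻¹ K ↔
      ∃ hc', τ.sh u (c + (B (u : V) (x : V) - B (x : V) (u : V))) hc' ∈ K := by
  obtain ⟨h', e⟩ := sh_conj τ hc hd
  rw [mem_conjS, inv_inv, e, mul_inv_cancel_right]
  exact ⟨fun h => ⟨h', h⟩, fun ⟨_, h⟩ => h⟩

/-- Moving the lift of a fixed-point-free element into the Levi part. -/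
theorem normalise (τ : Fr B) {K : Subgroup (Herm.suG B)} {h : Herm.suG τ.BW}
    (hfree : ∀ u : τ.W, h.1 u = u → u = 0) (hh : h ∈ τ.I1 K) :
    ∃ (s : Herm.suG B) (c0 : skew θ), τ.emb h * τ.tvc c0 ∈ conjS s K ∧
      (∀ u, u ∈ τ.Sb (conjS s K) ↔ u ∈ τ.Sb K) ∧ τ.Zp (conjS s K) = τ.Zp K ∧
      ∀ l ∈ τ.I1 K, l ∈ τ.I1 (conjS s K) := by
  obtain ⟨u, c, hc, hm⟩ := τ.exists_lift hh
  have : Finite τ.W := Module.finite_of_finite F
  have hh' : ∀ z : τ.W, h.1 ((h⁻¹).1 z) = z := fun z => by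
    rw [← LinearEquiv.mul_apply, ← Subgroup.coe_mul, mul_inv_cancel]; rfl
  have hinj : Function.Injective fun x : τ.W => (h⁻¹).1 x - x := fun x x' e => sub_eq_zero.1 (by
    refine hfree (x - x') ?_
    have e2 : (h⁻¹).1 (x - x') = x - x' := by
      rw [map_sub]
      exact sub_eq_sub_iff_sub_eq_sub.1 e
    conv_lhs => rw [← e2]
    exact hh' _)
  obtain ⟨x, hx⟩ := (Finite.injective_iff_surjective.1 hinj) (-u)
  obtain ⟨d, hd⟩ := τ.exists_vec x
  set s := τ.sh x d hd with hs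
  have hnorm : B ((h⁻¹).1 x : V) ((h⁻¹).1 x : V) = B (x : V) (x : V) := (h⁻¹).2.1 x x
  have hd' : d + θ d = -B ((h⁻¹).1 x : V) ((h⁻¹).1 x : V) := by rw [hnorm]; exact hd
  obtain ⟨hd'', e⟩ := τ.emb_sh h ((h⁻¹).1 x) d hd'
  have hk : s * (τ.emb h * τ.sh u c hc) * s⁻¹ ∈ conjS s K := by
    rw [mem_conjS]; simpa [mul_assoc] using hm
  rw [← mul_assoc, hs, ← τ.sh_congr (hc := hd'') (hh' x) rfl, ← e, τ.sh_congr (hc' := hd) (hh' x) rfl,
    τ.sh_inv, mul_assoc (τ.emb h), τ.sh_mul, mul_assoc, τ.sh_mul] at hk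
  have hzero : (h⁻¹).1 x + u + -x = 0 := by
    have hx' : (h⁻¹).1 x - x = -u := hx
    rw [← sub_eq_add_neg, add_sub_right_comm, hx', neg_add_cancel]
  set cc := d + c - B ((h⁻¹).1 x : V) (u : V) + θ d - B (((h⁻¹).1 x + u : τ.W) : V) ((-x : τ.W) : V) with hcc
  have hccs : cc ∈ skew θ := by
    have h1 := τ.sum_zero (τ.sum_zero hd' hc) (τ.inv_cond hd)
    rw [hzero] at h1
    rw [mem_skew, hcc]
    simpa using h1
  have hsi : conjS s K = conjS (τ.sh (-x) (θ d) (τ.inv_cond hd))⁻¹ K := by rw [← τ.sh_inv, inv_inv, hs]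
  refine ⟨s, ⟨cc, hccs⟩, ?_, fun v => ?_, ?_, fun l hl => ?_⟩
  · convert hk using 2
    exact τ.sh_congr hzero.symm rfl
  · rw [hsi]
    constructor
    · rintro ⟨c1, hc1, hv⟩
      obtain ⟨hc', hv'⟩ := (sh_conjS τ (τ.inv_cond hd) hc1).1 hv
      exact ⟨_, hc', hv'⟩
    · rintro ⟨c1, hc1, hv⟩
      refine ⟨c1 - (B (v : V) ((-x : τ.W) : V) - B ((-x : τ.W) : V) (v : V)), ?_,
        (sh_conjS τ (τ.inv_cond hd) _).2 ⟨?_, ?_⟩⟩
      · simp [τ.hB.symm]
        linear_combination hc1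
      · simp [τ.hB.symm]
        linear_combination hc1
      · convert hv using 1
        exact τ.sh_congr rfl (sub_add_cancel _ _)
  · rw [hsi]
    ext c1
    rw [τ.mem_Zp, τ.mem_Zp, Fr.tvc, sh_conjS τ (τ.inv_cond hd)]
    constructor
    · rintro ⟨hc', hv⟩
      convert hv using 1
      exact τ.sh_congr rfl (by simp)
    · intro hv
      refine ⟨by simpa using τ.skew_cond c1.2, ?_⟩
      convert hv using 1
      exact τ.sh_congr rfl (by simp)
  · obtain ⟨g, hg, rfl⟩ := (τ.mem_I1 K).1 hl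
    refine (τ.mem_I1 _).2 ⟨⟨s, τ.sh_mem_P1 x d hd⟩ * g * ⟨s, τ.sh_mem_P1 x d hd⟩⁻¹, ?_, ?_⟩
    · rw [mem_conjS]
      simpa [mul_assoc] using hg
    · rw [map_mul, map_mul, map_inv, τ.lam_sh]; simp

theorem emb_tvc_apply (τ : Fr B) (ρ : Fr τ.BW) (hd : finrank F τ.W = 2) (b : skew θ) (X : V) :
    (τ.emb (ρ.tvc b)).1 X = X + ((b : F) * B (ρ.y : V) X) • (ρ.y : V) := by
  have h0 : (τ.emb (ρ.tvc b)).1 X =
      (((ρ.tvc b).1 (τ.pr X) : τ.W) : V) + (((1 : Fˣ) : F) * B τ.f X) • τ.y +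
        ((θ ((1 : Fˣ) : F))⁻¹ * B τ.y X) • τ.f := rfl
  rw [h0, tvc_apply ρ hd, Submodule.coe_add, Submodule.coe_smul, τ.BW_apply, τ.pr_B, Units.val_one, map_one,
    inv_one, one_mul, one_mul]
  conv_rhs => arg 1; rw [τ.decomp X]
  abel

theorem iso_cond (τ : Fr B) (ρ : Fr τ.BW) (β : F) :
    (0 : F) + θ 0 = -B ((β • ρ.y : τ.W) : V) ((β • ρ.y : τ.W) : V) := by
  have : B (ρ.y : V) (ρ.y : V) = 0 := by rw [← τ.BW_apply]; exact ρ.hyy
  simp [this]

/-- A lifted transvection of the Levi part together with the line gives a transvection. -/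
theorem borel_core (τ : Fr B) {K : Subgroup (Herm.suG B)} (hd : finrank F τ.W = 2) (hZ : τ.Zp K = ⊥)
    (ρ : Fr τ.BW) (hline : ∀ β, τ.sh (β • ρ.y) 0 (iso_cond τ ρ β) ∈ K) {k : F} (hks : k ∈ skew θ) (hk0 : k ≠ 0)
    (hT : ρ.tvc ⟨k, hks⟩ ∈ τ.I1 K) : ∃ σ : Fr B, σ.Zp K ≠ ⊥ := by
  classical
  have hθ := τ.hB.toIsInvol
  have hk : θ k = -k := eq_neg_of_add_eq_zero_right (mem_skew.1 hks)
  have hyy : B (ρ.y : V) (ρ.y : V) = 0 := by rw [← τ.BW_apply]; exact ρ.hyy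
  have hnz : ∀ β : F, B ((β • ρ.y : τ.W) : V) ((β • ρ.y : τ.W) : V) = 0 := fun β => by
    simp [hyy]
  have huniq : ∀ (β c : F) (hc : c + θ c = -B ((β • ρ.y : τ.W) : V) ((β • ρ.y : τ.W) : V)),
      τ.sh (β • ρ.y) c hc ∈ K → c = 0 := fun β c hc hm => by
    have hsk : c - 0 ∈ skew θ := by rw [sub_zero, mem_skew, hc, hnz, neg_zero]
    have := diff_mem τ hm (hline β) hsk
    rw [hZ, AddSubgroup.mem_bot] at this
    exact sub_eq_zero.1 (congrArg Subtype.val this)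
  obtain ⟨u1, c1, hc1, hm1⟩ := τ.exists_lift hT
  have hTy : ∀ β : F, (ρ.tvc ⟨k, hks⟩).1 (β • ρ.y) = β • ρ.y := fun β => by
    rw [map_smul, Fr.tvc, ρ.sh_y]
  have hperp : ∀ β : F, θ β * B (ρ.y : V) (u1 : V) = β * B (u1 : V) (ρ.y : V) := fun β => by
    obtain ⟨hc', hm⟩ := conj_by_lift τ hm1 (hline β)
    have := huniq β _ (by rwa [hTy] at hc') (by
      convert hm using 1
      exact τ.sh_congr (hTy β).symm rfl)
    simp only [zero_add, Submodule.coe_smul, map_smul, map_smulₛₗ, LinearMap.smul_apply, smul_eq_mul,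
      RingHom.id_apply] at this
    exact sub_eq_zero.1 this
  have hu1 : τ.BW ρ.y u1 = 0 := by
    rw [τ.BW_apply]
    have e1 := hperp 1
    rw [map_one, one_mul, one_mul] at e1
    by_contra hne
    obtain ⟨β, hβ⟩ := Herm.exists_moved hθ
    have e3 := hperp β
    rw [← e1] at e3
    exact hβ (mul_right_cancel₀ hne e3)
  obtain ⟨α, rfl⟩ : ∃ α : F, u1 = α • ρ.y := ⟨τ.BW ρ.f u1, by
    conv_lhs => rw [decomp2 ρ hd u1, hu1, zero_smul, add_zero]⟩
  have hc1' : c1 ∈ skew θ := by rw [mem_skew, hc1, hnz, neg_zero]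
  have hm2 : τ.emb (ρ.tvc ⟨k, hks⟩) * τ.tvc ⟨c1, hc1'⟩ ∈ K := by
    have h := K.mul_mem hm1 (hline (-α))
    rw [mul_assoc, τ.sh_mul] at h
    convert h using 2
    exact τ.sh_congr (by rw [← add_smul, add_neg_cancel, zero_smul]) (by simp [hyy])
  have hck : θ (c1 / k) = c1 / k := by
    rw [map_div₀, hk, eq_neg_of_add_eq_zero_right (mem_skew.1 hc1'), neg_div_neg_eq]
  obtain ⟨γ, hγ⟩ := Herm.exists_norm hθ hck
  set v : V := (ρ.y : V) + γ • τ.y with hv
  have hv0 : v ≠ 0 := fun e => ρ.y_ne (by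
    have e' := congrArg τ.pr e
    rwa [hv, map_add, map_smul, τ.pr_W, τ.pr_y, smul_zero, add_zero, map_zero] at e')
  have hvv : B v v = 0 := by simp [hv, hyy, τ.hyy, τ.By, τ.Bwy]
  obtain ⟨σ, hσ⟩ := exists_frame τ.hB hv0 hvv
  refine ⟨σ, fun hc => hk0 ?_⟩
  have hm3 := K.mul_mem hm2 (hline (k * θ γ))
  have hmem : (⟨k, hks⟩ : skew θ) ∈ σ.Zp K := by
    rw [σ.mem_Zp]
    convert hm3 using 1
    refine Subtype.ext (LinearEquiv.ext fun X => ?_)
    simp only [Subgroup.coe_mul, LinearEquiv.mul_apply, emb_tvc_apply τ ρ hd]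
    simp only [Fr.tvc, τ.sh_coe, σ.sh_coe, hσ,
      Submodule.coe_zero, smul_zero, add_zero, map_zero, LinearMap.zero_apply, sub_zero,
      Submodule.coe_smul]
    simp only [hv, map_add, map_smul, map_smulₛₗ, LinearMap.add_apply, LinearMap.smul_apply, smul_eq_mul,
      τ.hyy, τ.By, τ.Bwy, hyy, map_mul, hk, hθ.invol, mul_zero, add_zero, zero_mul, zero_sub]
    have hcγ : k * (γ * θ γ) = c1 := by rw [hγ, mul_div_cancel₀ _ hk0]
    match_scalars
    all_goals try ring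
    all_goals linear_combination (B τ.y X) * hcγ
  rw [hc, AddSubgroup.mem_bot] at hmem
  exact congrArg Subtype.val hmem


/-- A triangular Levi image with a full line gives a point with a non-trivial central part. -/
theorem borel_root (τ : Fr B) {K : Subgroup (Herm.suG B)} (hd : finrank F τ.W = 2)
    (hq : 3 ≤ Nat.card (Herm.fixField θ)) (hZ : τ.Zp K = ⊥) (ρ : Fr τ.BW) (hI : τ.I1 K = ρ.P)
    (hS : ∀ u, u ∈ τ.Sb K ↔ τ.BW ρ.y u = 0) : ∃ σ : Fr B, σ.Zp K ≠ ⊥ := by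
  classical
  have hθ := τ.hB.toIsInvol
  obtain ⟨r, hr, hr0, hr1⟩ : ∃ r : F, θ r = r ∧ r ≠ 0 ∧ r ≠ 1 := by
    by_contra hc
    push Not at hc
    have : Nat.card (Herm.fixField θ) ≤ 2 := by
      have : Fintype (Herm.fixField θ) := Fintype.ofFinite _
      rw [Nat.card_eq_fintype_card, ← Finset.card_univ]
      refine le_trans (Finset.card_le_card (t := {0, 1}) fun y _ => ?_) Finset.card_le_two
      rcases eq_or_ne y 0 with rfl | hy
      · simp
      · simp [Subtype.ext_iff, hc y.1 y.2 fun e => hy (Subtype.ext e)]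
    omega
  set a := Units.mk0 r hr0 with ha
  set h : Herm.suG τ.BW := ⟨_, ext_mem ρ hd (a := a) hr⟩ with hh
  have hhy : h.1 ρ.y = r • ρ.y := ρ.ext_y a _
  have hfree : ∀ u : τ.W, h.1 u = u → u = 0 := fun u hu =>
    SUE.ext_fixfree ρ (fun e => hr1 (congrArg Units.val e)) (fun w _ => W_zero ρ hd w) hu
  have hhm : h ∈ τ.I1 K := by rw [hI]; exact ⟨a, hhy⟩
  obtain ⟨s, c0, hg, hS', hZ', hI'⟩ := normalise τ hfree hhm
  suffices ∃ σ : Fr B, σ.Zp (conjS s K) ≠ ⊥ by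
    obtain ⟨σ, hσ⟩ := this
    obtain ⟨b, hb, hb0⟩ : ∃ b ∈ σ.Zp (conjS s K), b ≠ 0 := by
      by_contra hc
      push Not at hc
      exact hσ ((AddSubgroup.eq_bot_iff_forall _).2 hc)
    rw [σ.mem_Zp, mem_conjS] at hb
    have hv0 : (s⁻¹).1 σ.y ≠ 0 := fun e => σ.y_ne ((s⁻¹).1.map_eq_zero_iff.1 e)
    obtain ⟨π, hπ⟩ := exists_frame τ.hB hv0 (by rw [(s⁻¹).2.1]; exact σ.hyy)
    refine ⟨π, fun hc => hb0 ?_⟩
    have : b ∈ π.Zp K := by
      rw [π.mem_Zp]
      convert hb using 1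
      refine Subtype.ext (LinearEquiv.ext fun X => ?_)
      have hsX : (s⁻¹).1 (s.1 X) = X := Herm.inv_apply_self' s.1 X
      have e1 : B σ.y (s.1 X) = B ((s⁻¹).1 σ.y) X := by
        rw [← (s⁻¹).2.1 σ.y (s.1 X), hsX]
      simp only [Subgroup.coe_mul, LinearEquiv.mul_apply, Fr.tvc, π.sh_coe, σ.sh_coe, Submodule.coe_zero,
        smul_zero, add_zero, map_zero, LinearMap.zero_apply, sub_zero, map_add, map_smul, hsX, hπ, e1]
    rw [hc, AddSubgroup.mem_bot] at this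
    exact this
  set K' := conjS s K with hK'
  rw [hZ] at hZ'
  have hyy : B (ρ.y : V) (ρ.y : V) = 0 := by rw [← τ.BW_apply]; exact ρ.hyy
  have hline : ∀ β : F, β • ρ.y ∈ τ.Sb K' := fun β => by
    rw [hS', hS, map_smul, ρ.hyy, smul_zero]
  have hnz : ∀ β : F, B ((β • ρ.y : τ.W) : V) ((β • ρ.y : τ.W) : V) = 0 := fun β => by
    simp [hyy]
  choose cf hcf hcm using hline
  have huniq : ∀ (β c : F) (hc : c + θ c = -B ((β • ρ.y : τ.W) : V) ((β • ρ.y : τ.W) : V)),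
      τ.sh (β • ρ.y) c hc ∈ K' → c = cf β := fun β c hc hm => by
    have hsk : c - cf β ∈ skew θ := by
      rw [mem_skew, map_sub]; linear_combination hc - hcf β
    have := diff_mem τ hm (hcm β) hsk
    rw [hZ', AddSubgroup.mem_bot] at this
    exact sub_eq_zero.1 (congrArg Subtype.val this)
  have hcfr : ∀ β, cf (r * β) = cf β := fun β => by
    obtain ⟨hc', hm⟩ := conj_by_lift τ hg (hcm β)
    refine (huniq (r * β) (cf β) ?_ ?_).symm
    · rw [hnz]; exact (hcf β).trans (by rw [hnz])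
    · convert hm using 1
      exact τ.sh_congr (by rw [map_smul, hhy, smul_smul, mul_comm]) (by simp)
  have hadd : ∀ β β', cf (β + β') = cf β + cf β' := fun β β' => by
    refine (huniq _ _ ?_ ?_).symm
    · have h1 := hcf β
      have h2 := hcf β'
      rw [hnz] at h1 h2
      rw [hnz, map_add]
      linear_combination h1 + h2
    · have hm := K'.mul_mem (hcm β) (hcm β')
      rw [τ.sh_mul] at hm
      convert hm using 1
      exact τ.sh_congr (add_smul _ _ _) (by simp [hyy])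
  have hr1' : r - 1 ≠ 0 := sub_ne_zero.2 hr1
  have hcz : ∀ β, cf β = 0 := fun β => by
    have e := hadd ((r - 1) * (β / (r - 1))) (β / (r - 1))
    rw [show (r - 1) * (β / (r - 1)) + β / (r - 1) = r * (β / (r - 1)) by ring, hcfr,
      mul_div_cancel₀ _ hr1'] at e
    linear_combination -e
  obtain ⟨k, hk0, hk⟩ := Herm.exists_skew hθ
  have hks : k ∈ skew θ := by rw [mem_skew, hk, add_neg_cancel]
  have hT : ρ.tvc ⟨k, hks⟩ ∈ τ.I1 K' := hI' _ (by
    rw [hI]; exact ⟨1, by rw [Units.val_one, one_smul]; exact ρ.sh_y _ _ _⟩)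
  exact borel_core τ hd hZ' ρ (fun β => (congrArg (· ∈ K') (τ.sh_congr rfl (hcz β))).mp (hcm β)) hks hk0 hT

end Cfsg.Agent.MinIndexForm.SUF
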