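import Cfsg.Agent.MinIndexForm.SUF.Shape

/-!
Vector parts which are a real plane in characteristic two.
-/

set_option autoImplicit false

namespace Cfsg.Agent.MinIndexForm.SUF

open Cfsg.Agent.Classical Cfsg.Agent.MinIndexForm.SU Module

universe uF uV
variable {F : Type uF} {V : Type uV} [Field F] [AddCommGroup V] [Module F V] {θ : F →+* F}
  {B : V →ₛₗ[θ] V →ₗ[F] F} [Finite F] [FiniteDimensional F V]

local notation "q" => Nat.card (Herm.fixField θ)

theorem sh_conj (τ : Fr B) {u u0 : τ.W} {c c0 : F} (hc : c + θ c = -B (u : V) (u : V))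
    (hc0 : c0 + θ c0 = -B (u0 : V) (u0 : V)) :
    ∃ hc', τ.sh u0 c0 hc0 * τ.sh u c hc =
      τ.sh u (c + (B (u : V) (u0 : V) - B (u0 : V) (u : V))) hc' * τ.sh u0 c0 hc0 := by
  refine ⟨?_, ?_⟩
  · simp [τ.hB.symm]
    linear_combination hc
  · rw [τ.sh_mul, τ.sh_mul]
    exact τ.sh_congr (add_comm _ _) (by ring)

/-- How a lift moves the central coordinate. -/
theorem conj_by_lift (τ : Fr B) {K : Subgroup (Herm.suG B)} {l : Herm.suG τ.BW} {u u0 : τ.W} {c c0 : F}
    {hc : c + θ c = -B (u : V) (u : V)} {hc0 : c0 + θ c0 = -B (u0 : V) (u0 : V)}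
    (hg : τ.emb l * τ.sh u0 c0 hc0 ∈ K) (hm : τ.sh u c hc ∈ K) :
    ∃ hc', τ.sh (l.1 u) (c + (B (u : V) (u0 : V) - B (u0 : V) (u : V))) hc' ∈ K := by
  obtain ⟨h1, e1⟩ := sh_conj τ hc hc0
  obtain ⟨h2, e2⟩ := τ.emb_sh l u _ h1
  refine ⟨h2, ?_⟩
  have hmm := K.mul_mem (K.mul_mem hg hm) (K.inv_mem hg)
  rwa [mul_assoc (τ.emb l), e1, ← mul_assoc, e2, mul_assoc (τ.sh _ _ _), mul_inv_cancel_right] at hmm

theorem diff_mem (τ : Fr B) {K : Subgroup (Herm.suG B)} {u : τ.W} {c c' : F}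
    {hc : c + θ c = -B (u : V) (u : V)} {hc' : c' + θ c' = -B (u : V) (u : V)}
    (h : τ.sh u c hc ∈ K) (h' : τ.sh u c' hc' ∈ K) (hs : c - c' ∈ skew θ) :
    (⟨c - c', hs⟩ : skew θ) ∈ τ.Zp K := by
  have hm := K.mul_mem h (K.inv_mem h')
  rw [τ.mem_Zp, Fr.tvc]
  convert hm using 1
  rw [eq_mul_inv_iff_mul_eq, τ.sh_mul]
  exact τ.sh_congr (zero_add u) (by simp)

theorem two_dvd_fix (h2 : (2 : F) = 0) : 2 ∣ q := by
  have : Fintype (Herm.fixField θ) := Fintype.ofFinite _
  have e : addOrderOf (1 : Herm.fixField θ) = 2 :=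
    addOrderOf_eq_prime (by
      rw [two_nsmul]; exact Subtype.ext (show (1 : F) + 1 = 0 by rw [one_add_one_eq_two]; exact h2)) one_ne_zero
  rw [← e]
  exact addOrderOf_dvd_natCard _

/-- Every fixed element is a square of a fixed element. -/
theorem exists_sqrt (h2 : (2 : F) = 0) {a : F} (ha : θ a = a) : ∃ s, θ s = s ∧ s * s = a := by
  have : Fintype F := Fintype.ofFinite F
  have hc : ringChar F = 2 := by
    obtain ⟨p, hp⟩ := CharP.exists F
    rw [ringChar.eq F p]
    have hpp := CharP.char_is_prime F p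
    have : p ∣ 2 := (CharP.cast_eq_zero_iff F p 2).1 (by exact_mod_cast h2)
    exact (Nat.prime_dvd_prime_iff_eq hpp Nat.prime_two).1 this
  obtain ⟨s, hs⟩ := FiniteField.isSquare_of_char_two hc a
  refine ⟨s, ?_, hs.symm⟩
  have : (θ s - s) * (θ s - s) = 0 := by
    have e : θ s * θ s = a := by rw [← map_mul, ← hs, ha]
    linear_combination e - hs + (a - θ s * s) * h2
  exact sub_eq_zero.1 (mul_self_eq_zero.1 this)

section

variable (τ : Fr B) (hd : finrank F τ.W = 2) (h2 : (2 : F) = 0)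
  (K : Subgroup (Herm.suG B)) (ρ : Fr τ.BW)
  (hL : ∀ v, v ∈ τ.Sb K ↔ θ (τ.BW ρ.f v) = τ.BW ρ.f v ∧ τ.BW ρ.y v ∈ skew θ)
include hd h2 hL

theorem smul_mem_L {r : F} (hr : θ r = r) {v : τ.W} (hv : v ∈ τ.Sb K) : r • v ∈ τ.Sb K := by
  obtain ⟨h1, h3⟩ := (hL v).1 hv
  rw [hL]
  simp only [map_smul, smul_eq_mul, mem_skew, map_mul, hr, h1]
  rw [mem_skew] at h3
  exact ⟨trivial, by linear_combination r * h3⟩

omit hd in
theorem y_mem_L : ρ.y ∈ τ.Sb K := by
  rw [hL, ρ.hfy, ρ.hyy]; exact ⟨map_one θ, zero_mem _⟩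

omit hd in
theorem f_mem_L : ρ.f ∈ τ.Sb K := by
  rw [hL, ρ.hff, ρ.hyf, mem_skew, map_one]
  exact ⟨map_zero θ, by linear_combination h2⟩

theorem L_real {u v : τ.W} (hu : u ∈ τ.Sb K) (hv : v ∈ τ.Sb K) :
    θ (τ.BW u v) = τ.BW u v ∧ τ.BW u u = 0 := by
  obtain ⟨a1, b1⟩ := (hL u).1 hu
  obtain ⟨a2, b2⟩ := (hL v).1 hv
  rw [mem_skew] at b1 b2
  have c1 : θ (τ.BW ρ.y u) = τ.BW ρ.y u := by linear_combination b1 - τ.BW ρ.y u * h2
  have c2 : θ (τ.BW ρ.y v) = τ.BW ρ.y v := by linear_combination b2 - τ.BW ρ.y v * h2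
  have e : ∀ x z : τ.W, τ.BW x z =
      θ (τ.BW ρ.f x) * τ.BW ρ.y z + θ (τ.BW ρ.y x) * τ.BW ρ.f z := fun x z => by
    conv_lhs => rw [decomp2 ρ hd x, decomp2 ρ hd z]
    simp only [map_add, map_smul, map_smulₛₗ, LinearMap.add_apply, LinearMap.smul_apply, smul_eq_mul,
      ρ.hyy, ρ.hff, ρ.hyf, ρ.hfy, RingHom.id_apply]
    ring
  constructor
  · rw [e, map_add, map_mul, map_mul, τ.hB.invol, τ.hB.invol, a1, a2, c1, c2]
  · rw [e, a1, c1]
    linear_combination (τ.BW ρ.f u * τ.BW ρ.y u) * h2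

/-- With a trivial centre part the Levi image is small. -/
theorem real_small (hq : 3 ≤ q) (hZ : τ.Zp K = ⊥) : Nat.card (τ.I1 K) < q * (q - 1) := by
  classical
  by_contra hJ
  push Not at hJ
  have hθ := τ.hB.toIsInvol
  have : Finite τ.W := Module.finite_of_finite F
  have := Fr.finite_su (B := B)
  have := Fr.finite_su (B := τ.BW)
  have h4 : 4 ≤ q := by
    have := two_dvd_fix (θ := θ) h2
    omega
  set J := τ.I1 K with hJd
  set L := τ.Sb K with hLd
  have hinv : ∀ g ∈ J, ∀ v ∈ L, g.1 v ∈ L := fun g hg v hv => τ.Sb_inv_I1 K hg hv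
  -- the central coordinate
  have hcw : ∀ u : L, ∃ c, ∃ hc : c + θ c = -B ((u : τ.W) : V) ((u : τ.W) : V), τ.sh u.1 c hc ∈ K :=
    fun u => u.2
  choose cf hcf hcfm using hcw
  have huniq : ∀ (u : L) (c : F) (hc : c + θ c = -B ((u : τ.W) : V) ((u : τ.W) : V)),
      τ.sh u.1 c hc ∈ K → c = cf u := fun u c hc hm => by
    have hs : c - cf u ∈ skew θ := by
      rw [mem_skew, map_sub]; linear_combination hc - hcf u
    have := diff_mem τ hm (hcfm u) hs
    rw [hZ, AddSubgroup.mem_bot] at this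
    exact sub_eq_zero.1 (congrArg Subtype.val this)
  have hadd : ∀ u v : L, cf (u + v) = cf u + cf v - τ.BW u.1 v.1 := fun u v => by
    refine (huniq (u + v) _ ?_ ?_).symm
    · exact τ.sum_zero (hcf u) (hcf v)
    · have := K.mul_mem (hcfm u) (hcfm v)
      rw [τ.sh_mul] at this
      exact this
  -- lifts
  have hlift : ∀ m : J, ∃ u0 : τ.W, ∀ u : L, cf ⟨m.1.1 u.1, hinv m.1 m.2 u.1 u.2⟩ =
      cf u + (τ.BW u.1 u0 - τ.BW u0 u.1) := fun m => by
    obtain ⟨u0, c0, hc0, hg⟩ := τ.exists_lift (K := K) m.2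
    refine ⟨u0, fun u => ?_⟩
    obtain ⟨hc', h'⟩ := conj_by_lift τ hg (hcfm u)
    exact (huniq ⟨m.1.1 u.1, hinv m.1 m.2 u.1 u.2⟩ _ hc' h').symm
  choose u0 hu0 using hlift
  -- an element without fixed vectors
  obtain ⟨l, hl⟩ : ∃ l : J, ∀ v : τ.W, l.1.1 v = v → v = 0 := by
    by_contra hc
    push Not at hc
    have hinvol : ∀ l : J, l ^ 2 ^ 1 = 1 := fun l => by
      obtain ⟨v, hv, hv0⟩ := hc l
      have h1 : l.1 * l.1 = 1 := by
        by_cases hvv : τ.BW v v = 0
        · obtain ⟨σ, rfl⟩ := exists_frame τ.hB_W hv0 hvv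
          obtain ⟨c, hc⟩ := eq_tvc_of_fix σ hd hv
          rw [hc, ← σ.tvc_add, show c + c = 0 from Subtype.ext (by
            show (c : F) + c = 0
            linear_combination (c : F) * h2), σ.tvc_zero]
        · rw [eq_one_of_fix_aniso τ.hB_W hd hvv hv, one_mul]
      exact Subtype.ext (by rw [pow_one, pow_two]; exact h1)
    have hp : IsPGroup 2 J := fun l => ⟨1, hinvol l⟩
    have : Fact (Nat.Prime 2) := ⟨Nat.prime_two⟩
    obtain ⟨n, hn⟩ := IsPGroup.iff_card.1 hp
    have hdvd : 2 ^ n ∣ q * (q ^ 2 - 1) := hn ▸ card_su τ.hB_W hd ▸ J.card_subgroup_dvd_card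
    have hodd : Nat.Coprime (2 ^ n) (q ^ 2 - 1) := by
      refine Nat.Coprime.pow_left n (Nat.prime_two.coprime_iff_not_dvd.2 ?_)
      obtain ⟨r, hr⟩ := two_dvd_fix (θ := θ) h2
      rw [hr]
      intro hd2
      have : 2 ∣ (2 * r) ^ 2 := Dvd.dvd.pow ⟨r, rfl⟩ (by norm_num)
      have h1 : 1 ≤ (2 * r) ^ 2 := Nat.one_le_pow _ _ (by omega)
      omega
    have h1 := Nat.le_of_dvd (by omega) (hodd.dvd_of_dvd_mul_right hdvd)
    have h3 : q * 3 ≤ q * (q - 1) := Nat.mul_le_mul_left _ (by omega)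
    rw [hn] at hJ
    omega
  -- the linear part
  let sh1 : L → L := fun u => ⟨l.1.1 u.1 - u.1, L.sub_mem (hinv _ l.2 _ u.2) u.2⟩
  have hinj : Function.Injective sh1 := fun u v e => by
    have e' : l.1.1 u.1 - u.1 = l.1.1 v.1 - v.1 := congrArg Subtype.val e
    refine Subtype.ext (sub_eq_zero.1 (hl _ ?_))
    rw [map_sub]
    exact sub_eq_sub_iff_sub_eq_sub.1 e'
  have hsurj : Function.Surjective sh1 := Finite.injective_iff_surjective.1 hinj
  let s := Function.surjInv hsurj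
  have hs : ∀ u, sh1 (s u) = u := Function.surjInv_eq hsurj
  let μ : τ.W → τ.W → F := fun a u => τ.BW u a - τ.BW a u
  have μ_add : ∀ a u v, μ a (u + v) = μ a u + μ a v := fun a u v => by
    simp only [μ, map_add, LinearMap.add_apply]; ring
  have μ_smul : ∀ a u (r : F), θ r = r → μ a (r • u) = r * μ a u := fun a u r hr => by
    simp only [μ, map_smul, map_smulₛₗ, LinearMap.smul_apply, smul_eq_mul, hr]; ring
  let A : L → F := fun u => cf u - μ (u0 l) (s u).1
  have s_add : ∀ u v, s (u + v) = s u + s v := fun u v => hinj (by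
    rw [hs]
    refine Subtype.ext ?_
    show u.1 + v.1 = l.1.1 ((s u).1 + (s v).1) - ((s u).1 + (s v).1)
    rw [← congrArg Subtype.val (hs u), ← congrArg Subtype.val (hs v), map_add]
    simp only [sh1]
    abel)
  let sm : ∀ r : F, θ r = r → L → L := fun r hr u => ⟨r • u.1, smul_mem_L τ hd h2 K ρ hL hr u.2⟩
  have s_smul : ∀ r (hr : θ r = r) u, s (sm r hr u) = sm r hr (s u) := fun r hr u => hinj (by
    rw [hs]
    refine Subtype.ext ?_
    show r • u.1 = l.1.1 (r • (s u).1) - r • (s u).1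
    rw [map_smul, ← smul_sub]
    exact congrArg (r • ·) (congrArg Subtype.val (hs u)).symm)
  have A_add : ∀ u v, A (u + v) = A u + A v - τ.BW u.1 v.1 := fun u v => by
    simp only [A, hadd, s_add, AddSubgroup.coe_add, μ_add]; ring
  let mv : J → L → L := fun m u => ⟨m.1.1 u.1, hinv m.1 m.2 u.1 u.2⟩
  have hmv : ∀ m u, ((mv m u : L) : τ.W) = m.1.1 u.1 := fun m u => rfl
  have A_l : ∀ u, A (mv l u) = A u := fun u => by
    have e1 : s (mv l u) = s u + u := hinj (by
      rw [hs]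
      refine Subtype.ext ?_
      show l.1.1 u.1 = l.1.1 ((s u).1 + u.1) - ((s u).1 + u.1)
      rw [map_add]
      have e : l.1.1 (s u).1 - (s u).1 = u.1 := congrArg Subtype.val (hs u)
      linear_combination (norm := abel) -e)
    show cf (mv l u) - μ (u0 l) (s (mv l u)).1 = _
    rw [hu0 l u, e1, AddSubgroup.coe_add, μ_add]
    show _ = cf u - μ (u0 l) (s u).1
    simp only [μ]; ring
  have A_hom : ∀ r (hr : θ r = r) u, A (sm r hr u) = r * r * A u := fun r hr u => by
    let D : L → F := fun u => A (sm r hr u) - r * r * A u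
    have D_add : ∀ u v, D (u + v) = D u + D v := fun u v => by
      have e : sm r hr (u + v) = sm r hr u + sm r hr v := Subtype.ext (smul_add r u.1 v.1)
      simp only [D, e, A_add]
      show _ - τ.BW (r • u.1) (r • v.1) - _ = _
      simp only [map_smul, map_smulₛₗ, LinearMap.smul_apply, smul_eq_mul, hr]; ring
    have D_l : ∀ u, D (mv l u) = D u := fun u => by
      have e : sm r hr (mv l u) = mv l (sm r hr u) := Subtype.ext (map_smul _ r u.1).symm
      simp only [D, e, A_l]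
    have hD0 : D u = 0 := by
      obtain ⟨v, rfl⟩ := hsurj u
      have e : mv l v = sh1 v + v := Subtype.ext (sub_add_cancel _ _).symm
      have := D_l v
      rw [e, D_add, add_eq_right] at this
      exact this
    exact sub_eq_zero.1 hD0
  obtain ⟨r0, hr0, hr00, hr01⟩ : ∃ r : F, θ r = r ∧ r ≠ 0 ∧ r ≠ 1 := by
    by_contra hc
    push Not at hc
    have : q ≤ 2 := by
      have : Fintype (Herm.fixField θ) := Fintype.ofFinite _
      rw [Nat.card_eq_fintype_card, ← Finset.card_univ]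
      refine le_trans (Finset.card_le_card (t := {0, 1}) fun x _ => ?_) Finset.card_le_two
      rcases eq_or_ne x 0 with rfl | hx
      · simp
      · simp [Subtype.ext_iff, hc x.1 x.2 fun e => hx (Subtype.ext e)]
    omega
  have A_inv : ∀ m u, A (mv m u) = A u := fun m u => by
    let ν : L → F := fun u => A (mv m u) - A u
    have hν : ∀ u, ν u = μ (u0 m) u.1 - μ (u0 l) (s (mv m u)).1 + μ (u0 l) (s u).1 := fun u => by
      simp only [ν, A]
      rw [hu0 m u]
      simp only [μ]; ring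
    have e : sm r0 hr0 (mv m u) = mv m (sm r0 hr0 u) := Subtype.ext (map_smul _ r0 u.1).symm
    have h1 : ν (sm r0 hr0 u) = r0 * ν u := by
      rw [hν, hν, ← e, s_smul r0 hr0, s_smul r0 hr0]
      show μ (u0 m) (r0 • u.1) - μ (u0 l) (r0 • (s (mv m u)).1) + μ (u0 l) (r0 • (s u).1) = _
      simp only [μ_smul _ _ _ hr0]; ring
    have h3 : ν (sm r0 hr0 u) = r0 * r0 * ν u := by
      show A (mv m (sm r0 hr0 u)) - A (sm r0 hr0 u) = _
      rw [← e, A_hom r0 hr0, A_hom r0 hr0]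
      simp only [ν]; ring
    have h5 : r0 * (r0 - 1) * ν u = 0 := by linear_combination h1 - h3
    exact sub_eq_zero.1 ((mul_eq_zero.1 h5).resolve_left (mul_ne_zero hr00 (sub_ne_zero.2 hr01)))
  -- a level set
  obtain ⟨u, hu⟩ : ∃ u, A u ≠ 0 := by
    by_contra hc
    push Not at hc
    have := A_add ⟨ρ.y, y_mem_L τ h2 K ρ hL⟩ ⟨ρ.f, f_mem_L τ h2 K ρ hL⟩
    rw [hc, hc, hc, ρ.hyf] at this
    exact one_ne_zero (by linear_combination this)
  have hu0' : u.1 ≠ 0 := fun e => hu (by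
    have h00 := A_hom 0 (map_zero θ) u
    rw [zero_mul, zero_mul] at h00
    rwa [show sm 0 (map_zero θ) u = u from Subtype.ext (by
      show (0 : F) • u.1 = u.1
      rw [zero_smul, e])] at h00)
  obtain ⟨σ, hσ⟩ := exists_frame τ.hB_W hu0' (L_real τ hd h2 K ρ hL u.2 u.2).2
  obtain ⟨z, hz⟩ : ∃ z : L, τ.BW u.1 z.1 = 1 := by
    have hex : ∃ w ∈ L, τ.BW u.1 w ≠ 0 := by
      by_contra hc
      push Not at hc
      exact hu0' (τ.hB_W.nondeg _ fun v => by
        rw [decomp2 ρ hd v, map_add, map_smul, map_smul, hc _ (y_mem_L τ h2 K ρ hL),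
          hc _ (f_mem_L τ h2 K ρ hL)]
        simp)
    obtain ⟨w, hw, hwu⟩ := hex
    have hr : θ (τ.BW u.1 w)⁻¹ = (τ.BW u.1 w)⁻¹ := by rw [map_inv₀, (L_real τ hd h2 K ρ hL u.2 hw).1]
    exact ⟨⟨_, smul_mem_L τ hd h2 K ρ hL hr hw⟩, by
      show τ.BW u.1 ((τ.BW u.1 w)⁻¹ • w) = 1
      rw [map_smul, smul_eq_mul, inv_mul_cancel₀ hwu]⟩
  have hstab : Nat.card (σ.Zp J) ≤ 2 := by
    have hb : ∀ b ∈ σ.Zp J, (b : F) = 0 ∨ (b : F) * A u = 1 := by
      intro b hb
      have hbfix : θ (b : F) = b := by linear_combination mem_skew.1 b.2 - (b : F) * h2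
      have e : mv ⟨_, (σ.mem_Zp J).1 hb⟩ z = z + sm b hbfix u := Subtype.ext (by
        rw [hmv, tvc_apply σ hd, hσ, hz, mul_one]
        rfl)
      have h1 := A_inv ⟨_, (σ.mem_Zp J).1 hb⟩ z
      rw [e, A_add, A_hom (b : F) hbfix] at h1
      have hzu : τ.BW z.1 ((sm b hbfix u : L) : τ.W) = b := by
        show τ.BW z.1 ((b : F) • u.1) = b
        rw [map_smul, smul_eq_mul, ← τ.hB_W.symm, hz, map_one, mul_one]
      rw [hzu] at h1
      have h3 : (b : F) * ((b : F) * A u - 1) = 0 := by linear_combination h1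
      rcases mul_eq_zero.1 h3 with h | h
      · exact Or.inl h
      · exact Or.inr (sub_eq_zero.1 h)
    refine le_trans (Nat.card_le_card_of_injective
      (fun b : σ.Zp J => decide ((b.1 : F) = 0)) fun b b' e => ?_) (le_of_eq (by simp))
    refine Subtype.ext (Subtype.ext ?_)
    simp only [decide_eq_decide] at e
    rcases hb b.1 b.2 with h1 | h1
    · exact h1.trans (e.1 h1).symm
    · rcases hb b'.1 b'.2 with h3 | h3
      · exact (e.2 h3).trans h3.symm
      · exact mul_right_cancel₀ hu (h1.trans h3.symm)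
  let T : Set τ.W := {v | ∃ hv : v ∈ L, A ⟨v, hv⟩ = A u}
  have hJle := card_le_iso σ hd J T fun g hg => by
    rw [hσ]
    exact ⟨hinv g hg _ u.2, A_inv ⟨g, hg⟩ u⟩
  have hT : T.ncard * (q - 1) + 1 ≤ Nat.card L := by
    rw [← Nat.card_units, ← Nat.card_coe_set_eq, ← Nat.card_prod, ← Finite.card_option]
    refine Nat.card_le_card_of_injective (fun o => o.elim (0 : L) fun p =>
      sm (p.2 : Herm.fixField θ).1 (p.2 : Herm.fixField θ).2 ⟨p.1.1, p.1.2.1⟩) ?_
    have hA0 : A 0 = 0 := by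
      have := A_hom 0 (map_zero θ) u
      rw [zero_mul, zero_mul, show sm 0 (map_zero θ) u = 0 from Subtype.ext (zero_smul _ _)] at this
      exact this
    have key : ∀ p : T × (Herm.fixField θ)ˣ,
        A (sm (p.2 : Herm.fixField θ).1 (p.2 : Herm.fixField θ).2 ⟨p.1.1, p.1.2.1⟩) =
          ((p.2 : Herm.fixField θ) : F) * ((p.2 : Herm.fixField θ) : F) * A u := fun p => by
      rw [A_hom _ (p.2 : Herm.fixField θ).2, p.1.2.2]
    have hne0 : ∀ r : (Herm.fixField θ)ˣ, ((r : Herm.fixField θ) : F) ≠ 0 :=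
      fun r e => r.ne_zero (Subtype.ext e)
    rintro (_ | p) (_ | p') e
    · rfl
    · exfalso
      have := congrArg A e
      simp only [Option.elim_none, Option.elim_some, hA0, key] at this
      exact mul_ne_zero (mul_ne_zero (hne0 p'.2) (hne0 p'.2)) hu this.symm
    · exfalso
      have := congrArg A e
      simp only [Option.elim_none, Option.elim_some, hA0, key] at this
      exact mul_ne_zero (mul_ne_zero (hne0 p.2) (hne0 p.2)) hu this
    · simp only [Option.elim_some] at e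
      have h1 := congrArg A e
      rw [key, key] at h1
      have h3 := mul_right_cancel₀ hu h1
      have h5 : ((p.2 : Herm.fixField θ) : F) = ((p'.2 : Herm.fixField θ) : F) := by
        refine sub_eq_zero.1 (mul_self_eq_zero.1 ?_)
        linear_combination h3 - (((p.2 : Herm.fixField θ) : F) * ((p'.2 : Herm.fixField θ) : F) -
          ((p'.2 : Herm.fixField θ) : F) * ((p'.2 : Herm.fixField θ) : F)) * h2
      obtain ⟨⟨v, hv⟩, r⟩ := p
      obtain ⟨⟨v', hv'⟩, r'⟩ := p'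
      obtain rfl : r = r' := Units.ext (Subtype.ext h5)
      have h6 : v = v' := smul_right_injective τ.W (hne0 r) (congrArg Subtype.val e)
      subst h6
      rfl
  have hLc : Nat.card L ≤ q ^ 2 := by
    have hw := τ.Sb_index_ge K hd (by
      rw [hZ]
      intro e
      have := congrArg (fun S : AddSubgroup (skew θ) => Nat.card S) e
      simp only [AddSubgroup.card_bot, AddSubgroup.card_top, card_skew hθ] at this
      omega)
    have h1 := L.card_mul_index
    rw [τ.card_W hd] at h1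
    refine Nat.le_of_mul_le_mul_right ?_ (show 0 < q ^ 2 by positivity)
    calc Nat.card L * q ^ 2 ≤ Nat.card L * L.index := Nat.mul_le_mul_left _ hw
      _ = _ := h1.trans (by ring)
  have h5 : 2 * (T.ncard * (q - 1)) + 2 ≤ 2 * q ^ 2 := by omega
  have h6 : q * (q - 1) * (q - 1) + 2 ≤ 2 * q ^ 2 := by
    refine le_trans (Nat.add_le_add_right (Nat.mul_le_mul_right _ (hJ.trans (hJle.trans
      (Nat.mul_le_mul_left _ hstab)))) 2) (le_trans (le_of_eq ?_) h5)
    ring
  obtain ⟨r, hr⟩ : ∃ r, q = r + 4 := ⟨q - 4, by omega⟩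
  rw [hr, show r + 4 - 1 = r + 3 by omega] at h6
  nlinarith

set_option maxHeartbeats 1000000 in
/-- A point with trivial centre part. -/
theorem exists_trivial_centre (hZ : τ.Zp K ≠ ⊤) : ∃ σ : Fr B, σ.Zp K = ⊥ := by
  classical
  have hθ := τ.hB.toIsInvol
  obtain ⟨p, hp⟩ := CharP.exists F
  have : Fact p.Prime := ⟨CharP.char_is_prime F p⟩
  letI : Algebra (ZMod p) F := ZMod.algebra F p
  obtain ⟨c0, -, hc0⟩ := SetLike.exists_of_lt (lt_top_iff_ne_top.2 hZ)
  set Z' : Submodule (ZMod p) F := AddSubgroup.toZModSubmodule p ((τ.Zp K).map (skew θ).subtype)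
  have hc0' : (c0 : F) ∉ Z' := by
    rintro ⟨c, hc, e⟩
    exact hc0 ((Subtype.ext e : c = c0) ▸ hc)
  obtain ⟨φ, hφ0, hφ⟩ := Submodule.exists_dual_map_eq_bot_of_notMem hc0' inferInstance
  have hker : ∀ c ∈ τ.Zp K, φ (c : F) = 0 := fun c hc => by
    have : φ (c : F) ∈ Z'.map φ := ⟨_, ⟨c, hc, rfl⟩, rfl⟩
    rwa [hφ] at this
  have hc0f : θ (c0 : F) = c0 := by linear_combination mem_skew.1 c0.2 - (c0 : F) * h2
  have hzero : ∀ w : Herm.fixField θ, B (((w : F) • ρ.y : τ.W) : V) (((w : F) • ρ.y : τ.W) : V) = 0 :=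
    fun w => by
      rw [← τ.BW_apply]; simp [ρ.hyy]
  have hcw : ∀ w : Herm.fixField θ, ∃ c, ∃ hc : c + θ c =
      -B (((w : F) • ρ.y : τ.W) : V) (((w : F) • ρ.y : τ.W) : V), τ.sh ((w : F) • ρ.y) c hc ∈ K := fun w =>
    smul_mem_L τ hd h2 K ρ hL w.2 (y_mem_L τ h2 K ρ hL)
  choose cx hcx hcxm using hcw
  have hφc : ∀ (w : Herm.fixField θ) (c : F)
      (hc : c + θ c = -B (((w : F) • ρ.y : τ.W) : V) (((w : F) • ρ.y : τ.W) : V)),
      τ.sh ((w : F) • ρ.y) c hc ∈ K → φ c = φ (cx w) := fun w c hc hm => by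
    have hs : c - cx w ∈ skew θ := by
      rw [mem_skew, map_sub]; linear_combination hc - hcx w
    have := hker _ (diff_mem τ hm (hcxm w) hs)
    rwa [map_sub, sub_eq_zero] at this
  haveI : CharP (Herm.fixField θ) p :=
    (RingHom.charP_iff_charP (Herm.fixField θ).subtype p).2 hp
  letI : Algebra (ZMod p) (Herm.fixField θ) := ZMod.algebra (Herm.fixField θ) p
  haveI : Module.Finite (ZMod p) (Herm.fixField θ) := Module.Finite.of_finite
  let δ : Module.Dual (ZMod p) (Herm.fixField θ) := (AddMonoidHom.mk' (fun w => φ (cx w)) fun w w' => by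
    rw [← map_add]
    refine (hφc (w + w') (cx w + cx w') ?_ ?_).symm
    · rw [hzero, map_add, neg_zero]
      have h1 := hcx w
      have h3 := hcx w'
      rw [hzero, neg_zero] at h1 h3
      linear_combination h1 + h3
    · have := K.mul_mem (hcxm w) (hcxm w')
      rw [τ.sh_mul] at this
      convert this using 1
      refine τ.sh_congr (by rw [Subfield.coe_add, add_smul]) ?_
      rw [← τ.BW_apply]; simp [ρ.hyy]).toZModLinearMap p
  let Φ : Herm.fixField θ → Module.Dual (ZMod p) (Herm.fixField θ) := fun G =>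
    (AddMonoidHom.mk' (fun w : Herm.fixField θ => φ ((G : F) * (w : F))) fun w w' => by
      simp [mul_add]).toZModLinearMap p
  have hΦ : Function.Injective Φ := fun G G' e => by
    by_contra hne
    have hd0 : (G : F) - G' ≠ 0 := fun h => hne (Subtype.ext (sub_eq_zero.1 h))
    refine hφ0 ?_
    have := LinearMap.congr_fun e ⟨c0 / ((G : F) - G'), by
      rw [Herm.mem_fixField, map_div₀, map_sub, G.2, G'.2, hc0f]; rfl⟩
    change φ ((G : F) * _) = φ ((G' : F) * _) at this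
    rw [← sub_eq_zero, ← map_sub, ← sub_mul, mul_div_cancel₀ _ hd0] at this
    exact this
  have hfin : Finite (Module.Dual (ZMod p) (Herm.fixField θ)) :=
    Finite.of_equiv (Herm.fixField θ)
      (Module.Free.chooseBasis (ZMod p) (Herm.fixField θ)).toDualEquiv.toEquiv
  have hsurj : Function.Surjective Φ := by
    exact ((Nat.bijective_iff_injective_and_card Φ).2 ⟨hΦ,
      Nat.card_congr (Module.Free.chooseBasis (ZMod p) (Herm.fixField θ)).toDualEquiv.toEquiv⟩).2
  obtain ⟨G, hG⟩ := hsurj δ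
  obtain ⟨γ, hγ⟩ := Herm.exists_trace hθ (a := (G : F)) G.2
  set v : V := (ρ.y : V) + γ • τ.y with hv
  have hxx : B (ρ.y : V) (ρ.y : V) = 0 := by rw [← τ.BW_apply]; exact ρ.hyy
  have hv0 : v ≠ 0 := fun e => ρ.y_ne (by
    have e' := congrArg τ.pr e
    rwa [hv, map_add, map_smul, τ.pr_W, τ.pr_y, smul_zero, add_zero, map_zero] at e')
  have hvv : B v v = 0 := by simp [hv, hxx, τ.hyy, τ.By, τ.Bwy]
  obtain ⟨σ, hσ⟩ := exists_frame τ.hB hv0 hvv
  refine ⟨σ, (AddSubgroup.eq_bot_iff_forall _).2 fun b hb => ?_⟩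
  by_contra hb0
  have hb0' : (b : F) ≠ 0 := fun e => hb0 (Subtype.ext e)
  have hbf : θ (b : F) = b := by linear_combination mem_skew.1 b.2 - (b : F) * h2
  have hvy : B v τ.y = 0 := by simp [hv, τ.hyy, τ.Bwy]
  have hm : ∀ X, (σ.tvc b).1 X = X + ((b : F) * B v X) • v := fun X => by
    rw [Fr.tvc, σ.sh_coe, hσ]; simp
  refine hφ0 ?_
  obtain ⟨s, hsf, hss⟩ := exists_sqrt (θ := θ) h2 (a := (c0 : F) / b) (by rw [map_div₀, hc0f, hbf])
  obtain ⟨c, hc, hcm⟩ : ∃ c, ∃ hc : c + θ c = -B ((s • ρ.f : τ.W) : V) ((s • ρ.f : τ.W) : V),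
      τ.sh (s • ρ.f) c hc ∈ K := smul_mem_L τ hd h2 K ρ hL hsf (f_mem_L τ h2 K ρ hL)
  have hff : B (ρ.f : V) (ρ.f : V) = 0 := by rw [← τ.BW_apply]; exact ρ.hff
  have hyf : B (ρ.y : V) (ρ.f : V) = 1 := by rw [← τ.BW_apply]; exact ρ.hyf
  have hfy : B (ρ.f : V) (ρ.y : V) = 1 := by rw [← τ.BW_apply]; exact ρ.hfy
  have hc00 : c + θ c = 0 := by rw [hc]; simp [hff]
  set z' : τ.W := s • ρ.f + (s * (b : F)) • ρ.y with hz'
  have hz'c : c + s * (b : F) * (G : F) + θ (c + s * (b : F) * (G : F)) = -B (z' : V) (z' : V) := by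
    simp [hz', hxx, hff, hyf, hfy, hsf, hbf, show θ (G : F) = G from G.2]
    linear_combination hc00 + (s * (b : F) * (G : F) + s * (s * (b : F))) * h2
  have key : σ.tvc b * τ.sh (s • ρ.f) c hc = τ.sh z' _ hz'c * σ.tvc b := by
    refine Subtype.ext (LinearEquiv.ext fun X => ?_)
    simp only [Subgroup.coe_mul, LinearEquiv.mul_apply, hm, τ.sh_coe, hz']
    have eX : B (ρ.y : V) X = B v X - θ γ * B τ.y X := by simp [hv]
    have e1 : B v ((s • ρ.f : τ.W) : V) = s := by simp [hv, hyf, τ.By]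
    have e2 : B τ.y v = 0 := by simp [hv, τ.hyy, τ.By]
    have e3 : B (((s • ρ.f + (s * (b : F)) • ρ.y : τ.W)) : V) v = s := by
      simp [hv, hxx, hfy, τ.Bwy, hsf]
    have e4 : B (((s • ρ.f + (s * (b : F)) • ρ.y : τ.W)) : V) X =
        B ((s • ρ.f : τ.W) : V) X + s * (b : F) * B (ρ.y : V) X := by
      simp [hsf, hbf, mul_assoc]
    simp only [map_add, map_smul, smul_eq_mul, hvy, e1, e2, e3, e4, eX, mul_zero, add_zero]
    rw [Submodule.coe_add, Submodule.coe_smul, Submodule.coe_smul, show (ρ.y : V) = v - γ • τ.y from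
      (add_sub_cancel_right _ _).symm]
    match_scalars
    all_goals try ring
    linear_combination (s * (b : F) * B τ.y X) * hγ + (s * (b : F) * B v X - s * (b : F) * θ γ * B τ.y X) * h2
  have hmem := (σ.mem_Zp K).1 hb
  have h1 := K.mul_mem (K.mul_mem hmem hcm) (K.inv_mem hmem)
  rw [key, mul_inv_cancel_right] at h1
  have h3 := K.mul_mem h1 (K.inv_mem hcm)
  rw [τ.sh_inv, τ.sh_mul] at h3
  set w : Herm.fixField θ := ⟨s * (b : F), by rw [Herm.mem_fixField, map_mul, hsf, hbf]⟩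
  have hBz : B (z' : V) ((-(s • ρ.f) : τ.W) : V) = -(s * (b : F) * s) := by
    simp [hz', hff, hyf, hsf, hbf]
  have h4 : φ ((G : F) * (w : F) + c0) = φ (cx w) := by
    refine hφc w _ ?_ ?_
    · rw [hzero, neg_zero, map_add, map_mul, show θ (G : F) = G from G.2, show θ (w : F) = w from w.2, hc0f]
      linear_combination ((G : F) * (w : F) + (c0 : F)) * h2
    · convert h3 using 1
      refine τ.sh_congr ?_ ?_
      · rw [hz']; show (s * (b : F)) • ρ.y = _; abel
      · rw [hBz]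
        show (G : F) * (s * (b : F)) + c0 = _
        have : (c0 : F) = s * (b : F) * s := by
          rw [show s * (b : F) * s = s * s * b by ring, hss, div_mul_cancel₀ _ hb0']
        rw [this]
        linear_combination -hc00
  have h5 : φ ((G : F) * (w : F)) = φ (cx w) := LinearMap.congr_fun hG w
  rw [map_add, h5, add_eq_left] at h4
  exact h4

end

end Cfsg.Agent.MinIndexForm.SUF
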