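import Cfsg.Agent.MinIndexForm.SUF.Plane
import Cfsg.Agent.MinIndexForm.SUE.Counts

/-!
The stabiliser of a totally isotropic line in a four-dimensional unitary space.
-/

set_option autoImplicit false

namespace Cfsg.Agent.MinIndexForm.SUF

open Cfsg.Agent.Classical Cfsg.Agent.MinIndexForm.SU Module

universe uF uV
variable {F : Type uF} {V : Type uV} [Field F] [AddCommGroup V] [Module F V] {θ : F →+* F}
  {B : V →ₛₗ[θ] V →ₗ[F] F}

/-- Membership in the line spanned by the two points. -/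
def InL (τ : Fr B) (ρ : Fr τ.BW) (x : V) : Prop := B τ.y x = 0 ∧ B (ρ.y : V) x = 0

/-- The stabiliser of the line. -/
def lineStab (τ : Fr B) (ρ : Fr τ.BW) : Subgroup (Herm.suG B) where
  carrier := {g | ∀ x, InL τ ρ (g.1 x) ↔ InL τ ρ x}
  one_mem' x := Iff.rfl
  mul_mem' {g h} hg hh x := (hg (h.1 x)).trans (hh x)
  inv_mem' {g} hg x := by
    refine (hg _).symm.trans ?_
    rw [← LinearEquiv.mul_apply, ← Subgroup.coe_mul, mul_inv_cancel]
    rfl

variable [Finite F] [FiniteDimensional F V] (τ : Fr B) (ρ : Fr τ.BW) (hd : finrank F τ.W = 2)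

omit [Finite F] [FiniteDimensional F V] in
theorem inL_y : InL τ ρ τ.y := ⟨τ.hyy, τ.Bwy _⟩

omit [Finite F] [FiniteDimensional F V] in
theorem inL_e : InL τ ρ (ρ.y : V) := ⟨τ.By _, by rw [← τ.BW_apply]; exact ρ.hyy⟩

omit [Finite F] [FiniteDimensional F V] in
theorem inL_comb (a b : F) : InL τ ρ (a • (ρ.y : V) + b • τ.y) := by
  refine ⟨?_, ?_⟩
  · simp [τ.By, τ.hyy]
  · simp [τ.Bwy, (inL_e τ ρ).2]

include hd

theorem eq_comb {x : V} (hx : InL τ ρ x) : x = B (ρ.f : V) x • (ρ.y : V) + B τ.f x • τ.y := by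
  have e := decomp2 ρ hd (τ.pr x)
  rw [τ.BW_apply, τ.BW_apply, τ.pr_B, τ.pr_B, hx.2, zero_smul, add_zero] at e
  conv_lhs => rw [τ.decomp x, hx.1, zero_smul, add_zero, e, Submodule.coe_smul]

theorem mem_lineStab {g : Herm.suG B} (h1 : InL τ ρ (g.1 τ.y)) (h2 : InL τ ρ (g.1 (ρ.y : V))) :
    g ∈ lineStab τ ρ := by
  have : Finite V := Module.finite_of_finite F
  have hfwd : ∀ x, InL τ ρ x → InL τ ρ (g.1 x) := fun x hx => by
    rw [eq_comb τ ρ hd hx, map_add, map_smul, map_smul, eq_comb τ ρ hd h1, eq_comb τ ρ hd h2]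
    simp only [smul_add, smul_smul]
    rw [add_add_add_comm, ← add_smul, ← add_smul]
    exact inL_comb τ ρ _ _
  intro x
  refine ⟨fun hx => ?_, hfwd x⟩
  have hinj : Function.Injective fun z : {z // InL τ ρ z} => (⟨g.1 z.1, hfwd _ z.2⟩ : {z // InL τ ρ z}) :=
    fun z z' e => Subtype.ext (g.1.injective (congrArg Subtype.val e))
  obtain ⟨z, hz⟩ := (Finite.injective_iff_surjective.1 hinj) ⟨_, hx⟩
  rw [← g.1.injective (congrArg Subtype.val hz)]
  exact z.2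

theorem T2_lineStab : τ.T2 (lineStab τ ρ) = ⊤ := by
  refine eq_top_iff.2 fun a _ => ?_
  have hl : ∀ u v, τ.BW (ρ.ext a⁻¹ (1 : ρ.W ≃ₗ[F] ρ.W) u) (ρ.ext a⁻¹ (1 : ρ.W ≃ₗ[F] ρ.W) v) = τ.BW u v :=
    ρ.ext_isometry _ fun u v => rfl
  have hm : τ.ext a (ρ.ext a⁻¹ (1 : ρ.W ≃ₗ[F] ρ.W)) ∈ Herm.suG B :=
    ⟨τ.ext_isometry a hl, Units.ext (by
      rw [τ.det_ext, ρ.det_ext, map_one, Units.val_one, mul_one, Units.val_inv_eq_inv_val, map_inv₀, inv_inv]
      have : θ (a : F) ≠ 0 := (map_ne_zero θ).2 a.ne_zero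
      field_simp)⟩
  refine (τ.mem_T2 _).2 ⟨⟨_, hm⟩, mem_lineStab τ ρ hd ?_ ?_, τ.ext_y _ _⟩
  · show InL τ ρ (τ.ext a _ τ.y)
    rw [τ.ext_y]
    simpa using inL_comb τ ρ 0 (a : F)
  · show InL τ ρ (τ.ext a _ (ρ.y : V))
    rw [τ.ext_W, ρ.ext_y, Submodule.coe_smul]
    simpa using inL_comb τ ρ ((a⁻¹ : Fˣ) : F) 0

theorem I1_lineStab : τ.I1 (lineStab τ ρ) = ρ.P := by
  ext l
  constructor
  · intro hl
    obtain ⟨g, hg, rfl⟩ := (τ.mem_I1 _).1 hl
    have h1 := (hg _).2 (inL_e τ ρ)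
    have e := decomp2 ρ hd ((τ.lam g).1 ρ.y)
    have h0 : τ.BW ρ.y ((τ.lam g).1 ρ.y) = 0 := by
      rw [τ.lam_apply, τ.BW_apply, τ.pr_B]; exact h1.2
    rw [h0, zero_smul, add_zero] at e
    exact ⟨Units.mk0 _ fun h => ρ.y_ne ((τ.lam g).1.map_eq_zero_iff.1 (by rw [e, h, zero_smul])), e⟩
  · rintro ⟨a, ha⟩
    refine (τ.mem_I1 _).2 ⟨⟨τ.emb l, τ.emb_y l⟩, mem_lineStab τ ρ hd ?_ ?_, τ.lam_emb l⟩
    · rw [τ.emb_y]; exact inL_y τ ρ
    · rw [τ.emb_W, ha, Submodule.coe_smul]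
      simpa using inL_comb τ ρ (a : F) 0

theorem sh_mem_lineStab (u : τ.W) (c : F) (hc : c + θ c = -B (u : V) (u : V)) :
    τ.sh u c hc ∈ lineStab τ ρ := by
  refine mem_lineStab τ ρ hd ?_ ?_
  · rw [τ.sh_y]; exact inL_y τ ρ
  · rw [τ.sh_W, sub_eq_add_neg, ← neg_smul]
    simpa using inL_comb τ ρ 1 (-B (u : V) (ρ.y : V))

theorem relIndex_lineStab (hn : finrank F V = 4) :
    (lineStab τ ρ).relIndex τ.P = Nat.card (Herm.fixField θ) + 1 := by
  have := Fr.finite_su (B := τ.BW)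
  have hSb : τ.Sb (lineStab τ ρ) = ⊤ := eq_top_iff.2 fun u _ => by
    obtain ⟨c, hc⟩ := τ.exists_vec u
    exact ⟨c, hc, sh_mem_lineStab τ ρ hd u c hc⟩
  have hZp : τ.Zp (lineStab τ ρ) = ⊤ := eq_top_iff.2 fun c _ => sh_mem_lineStab τ ρ hd _ _ _
  rw [τ.relIndex_P _ (by omega), T2_lineStab τ ρ hd, hSb, hZp, I1_lineStab τ ρ hd, Subgroup.index_top,
    AddSubgroup.index_top, AddSubgroup.index_top, one_mul, one_mul, mul_one]
  have h := ρ.P.card_mul_index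
  rw [card_P ρ hd, card_su τ.hB_W hd] at h
  have hq := two_le_fix τ.hB.toIsInvol
  refine Nat.eq_of_mul_eq_mul_left (Nat.mul_pos (show 0 < Nat.card (Herm.fixField θ) by omega)
    (show 0 < Nat.card (Herm.fixField θ) - 1 by omega)) ?_
  rw [h, mul_assoc, mul_comm (Nat.card (Herm.fixField θ) - 1), ← Nat.sq_sub_sq, one_pow]

theorem relIndex_point : τ.P.relIndex (lineStab τ ρ) = Nat.card F + 1 := by
  classical
  have : Finite V := Module.finite_of_finite F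
  have := Fr.finite_su (B := B)
  set Q := lineStab τ ρ with hQ
  let pt : V → Option F := fun x => if B τ.f x = 0 then none else some (B (ρ.f : V) x / B τ.f x)
  have hsmul : ∀ (a : F) x, a ≠ 0 → pt (a • x) = pt x := fun a x ha => by
    simp only [pt, map_smul, smul_eq_mul, mul_eq_zero, ha, false_or]
    split_ifs
    · rfl
    · rw [mul_div_mul_left _ _ ha]
  have hin : ∀ g : Q, InL τ ρ (g.1.1 τ.y) := fun g => (g.2 _).2 (inL_y τ ρ)
  have hprop : ∀ g g' : Q, pt (g.1.1 τ.y) = pt (g'.1.1 τ.y) → ∃ a : Fˣ, g'.1.1 τ.y = (a : F) • g.1.1 τ.y := by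
    intro g g' e
    have e1 := eq_comb τ ρ hd (hin g)
    have e2 := eq_comb τ ρ hd (hin g')
    have hne : ∀ k : Q, k.1.1 τ.y ≠ 0 := fun k h => τ.y_ne (k.1.1.map_eq_zero_iff.1 h)
    simp only [pt] at e
    by_cases hg : B τ.f (g.1.1 τ.y) = 0
    · rw [if_pos hg] at e
      have hg' : B τ.f (g'.1.1 τ.y) = 0 := by
        by_contra hc; rw [if_neg hc] at e; exact absurd e (by simp)
      rw [hg, zero_smul, add_zero] at e1
      rw [hg', zero_smul, add_zero] at e2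
      have ha : B (ρ.f : V) (g.1.1 τ.y) ≠ 0 := fun h => hne g (by rw [e1, h, zero_smul])
      have hb : B (ρ.f : V) (g'.1.1 τ.y) ≠ 0 := fun h => hne g' (by rw [e2, h, zero_smul])
      refine ⟨Units.mk0 _ (div_ne_zero hb ha), ?_⟩
      rw [Units.val_mk0]
      conv_rhs => arg 2; rw [e1]
      rw [smul_smul, div_mul_cancel₀ _ ha, ← e2]
    · rw [if_neg hg] at e
      have hg' : B τ.f (g'.1.1 τ.y) ≠ 0 := fun hc => by rw [if_pos hc] at e; exact absurd e (by simp)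
      rw [if_neg hg', Option.some.injEq, div_eq_div_iff hg hg'] at e
      refine ⟨Units.mk0 _ (div_ne_zero hg' hg), ?_⟩
      rw [Units.val_mk0]
      conv_rhs => arg 2; rw [e1]
      conv_lhs => rw [e2]
      rw [smul_add, smul_smul, smul_smul, div_mul_cancel₀ _ hg, div_mul_eq_mul_div,
        mul_comm (B τ.f (g'.1.1 τ.y)), e, mul_div_cancel_right₀ _ hg]
  -- the two kinds of elements reaching all points
  let σ : Fr B :=
    ⟨τ.hB, (ρ.y : V), (ρ.f : V), (inL_e τ ρ).2, by rw [← τ.BW_apply]; exact ρ.hff,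
      by rw [← τ.BW_apply]; exact ρ.hyf⟩
  have hf : ∀ β : F, β • τ.f ∈ σ.W := fun β => σ.W.smul_mem β ⟨τ.Bwf _, τ.Bwf _⟩
  have hc0 : ∀ β : F, (0 : F) + θ 0 = -B ((⟨_, hf β⟩ : σ.W) : V) ((⟨_, hf β⟩ : σ.W) : V) := fun β => by
    simp [τ.hff]
  have ha_y : ∀ β : F, (σ.sh ⟨_, hf β⟩ 0 (hc0 β)).1 τ.y = τ.y + (-θ β) • (ρ.y : V) := fun β => by
    rw [σ.sh_coe]
    simp [σ, τ.hfy, τ.Bwy]
  have ha_e : ∀ β : F, (σ.sh ⟨_, hf β⟩ 0 (hc0 β)).1 (ρ.y : V) = ρ.y := fun β => σ.sh_y _ _ _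
  have ha : ∀ β : F, σ.sh ⟨_, hf β⟩ 0 (hc0 β) ∈ Q := fun β => by
    refine mem_lineStab τ ρ hd ?_ ?_
    · rw [ha_y, add_comm]; simpa using inL_comb τ ρ (-θ β) 1
    · rw [ha_e]; exact inL_e τ ρ
  have hb0 : (0 : F) + θ 0 = -B (ρ.f : V) (ρ.f : V) := by rw [← τ.BW_apply, ρ.hff]; simp
  have hb : τ.sh ρ.f 0 hb0 ∈ Q := sh_mem_lineStab τ ρ hd _ _ _
  have hcoe : ∀ g : Q, ∀ k : Q, k⁻¹ * g ∈ τ.P.subgroupOf Q ↔
      ∃ a : Fˣ, g.1.1 τ.y = (a : F) • k.1.1 τ.y := fun g k => by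
    rw [Subgroup.mem_subgroupOf, τ.mem_P]
    refine exists_congr fun a => ?_
    rw [Subgroup.coe_mul, Subgroup.coe_inv, Subgroup.coe_mul, LinearEquiv.mul_apply]
    constructor
    · intro h
      rw [← map_smul, ← h, ← LinearEquiv.mul_apply, ← Subgroup.coe_mul, mul_inv_cancel]
      rfl
    · intro h
      rw [h, map_smul]
      exact congrArg _ (Herm.inv_apply_self' k.1.1 τ.y)
  let f : Q ⧸ τ.P.subgroupOf Q → Option F := fun x => pt (x.out.1.1 τ.y)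
  have hfmk : ∀ g : Q, f g = pt (g.1.1 τ.y) := fun g => by
    obtain ⟨k, hk⟩ := QuotientGroup.mk_out_eq_mul (τ.P.subgroupOf Q) g
    show pt ((Quotient.out (g : Q ⧸ τ.P.subgroupOf Q)).1.1 τ.y) = _
    obtain ⟨a, ha⟩ := τ.mem_P.1 (Subgroup.mem_subgroupOf.1 k.2)
    rw [hk, Subgroup.coe_mul, Subgroup.coe_mul, LinearEquiv.mul_apply, ha, map_smul, hsmul _ _ a.ne_zero]
  have hbij : Function.Bijective f := by
    refine ⟨fun x x' e => ?_, fun o => ?_⟩
    · induction x using QuotientGroup.induction_on with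
      | _ g => induction x' using QuotientGroup.induction_on with
        | _ g' =>
          rw [hfmk, hfmk] at e
          exact QuotientGroup.eq.2 ((hcoe g' g).2 (hprop g g' e))
    · rcases o with _ | β
      · refine ⟨((⟨_, Q.mul_mem hb (ha (-1))⟩ : Q) : Q ⧸ τ.P.subgroupOf Q), ?_⟩
        rw [hfmk, Subgroup.coe_mul, LinearEquiv.mul_apply, ha_y, map_add, τ.sh_y, map_smul, τ.sh_W]
        simp only [pt]
        rw [if_pos]
        rw [← τ.BW_apply, ρ.hfy]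
        simp [τ.hfy, τ.Bf]
      · refine ⟨((⟨_, ha (-θ β)⟩ : Q) : Q ⧸ τ.P.subgroupOf Q), ?_⟩
        rw [hfmk, ha_y]
        have e1 : B τ.f (τ.y + -θ (-θ β) • (ρ.y : V)) = 1 := by simp [τ.hfy, τ.Bf]
        have e2 : B (ρ.f : V) (τ.y + -θ (-θ β) • (ρ.y : V)) = β := by
          simp [τ.Bwy, τ.hB.invol, show B (ρ.f : V) (ρ.y : V) = 1 from by rw [← τ.BW_apply]; exact ρ.hfy]
        simp only [pt]
        rw [e1, e2, if_neg one_ne_zero, div_one]
  rw [Subgroup.relIndex, Subgroup.index, Nat.card_eq_of_bijective f hbij, Finite.card_option]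

theorem index_lineStab (hn : finrank F V = 4) :
    (lineStab τ ρ).index =
      (Nat.card (Herm.fixField θ) + 1) * (Nat.card (Herm.fixField θ) ^ 3 + 1) := by
  have h1 := Subgroup.relIndex_mul_index (inf_le_left : τ.P ⊓ lineStab τ ρ ≤ τ.P)
  have h2 := Subgroup.relIndex_mul_index (inf_le_right : τ.P ⊓ lineStab τ ρ ≤ lineStab τ ρ)
  rw [Subgroup.inf_relIndex_left, relIndex_lineStab τ ρ hd hn,
    SUE.index_P τ (k := 2) (by omega) le_rfl, SUE.Ne_two] at h1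
  rw [Subgroup.inf_relIndex_right, relIndex_point τ ρ hd, Herm.card_eq_fix_sq τ.hB.toIsInvol, ← h1,
    ← mul_assoc, mul_comm _ (Nat.card (Herm.fixField θ) ^ 2 + 1)] at h2
  exact Nat.eq_of_mul_eq_mul_left (Nat.succ_pos _) h2

end Cfsg.Agent.MinIndexForm.SUF
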