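import Cfsg.Agent.MinIndexForm.SUF.Borel
import Cfsg.Agent.MinIndexForm.SUF.Lines
import Cfsg.Agent.MinIndexForm.SU.Main

/-!
The least index of a proper subgroup of a four-dimensional special unitary group over at least three elements.
-/

set_option autoImplicit false

namespace Cfsg.Agent.MinIndexForm.SUF

open Cfsg.Agent.Classical Cfsg.Agent.MinIndexForm.SU Module

universe uF uV
variable {F : Type uF} {V : Type uV} [Field F] [AddCommGroup V] [Module F V] {θ : F →+* F}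
  {B : V →ₛₗ[θ] V →ₗ[F] F} [Finite F] [FiniteDimensional F V]

theorem conj_tvc (σ τ : Fr B) {g : Herm.suG B} (hg : g.1 σ.y = τ.y) (c : skew θ) :
    g * σ.tvc c * g⁻¹ = τ.tvc c := by
  rw [mul_inv_eq_iff_eq_mul]
  refine Subtype.ext (LinearEquiv.ext fun X => ?_)
  simp only [Subgroup.coe_mul, LinearEquiv.mul_apply, Fr.tvc, σ.sh_coe, τ.sh_coe, Submodule.coe_zero, smul_zero,
    add_zero, map_zero, LinearMap.zero_apply, sub_zero, map_add, map_smul, hg, ← g.2.1 σ.y X]

theorem Zp_conjS (σ τ : Fr B) {g : Herm.suG B} (hg : g.1 σ.y = τ.y) (H : Subgroup (Herm.suG B)) :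
    τ.Zp (conjS g H) = σ.Zp H := by
  ext c
  rw [τ.mem_Zp, σ.mem_Zp, ← conj_tvc σ τ hg, mem_conjS]
  simp [mul_assoc]

theorem relIndex_conjS (σ τ : Fr B) {g : Herm.suG B} (hg : g.1 σ.y = τ.y) (H : Subgroup (Herm.suG B)) :
    (conjS g H).relIndex τ.P = H.relIndex σ.P := by
  have hP : τ.P = conjS g σ.P := by
    ext x
    rw [mem_conjS, τ.mem_P, σ.mem_P]
    refine exists_congr fun a => ?_
    rw [Subgroup.coe_mul, Subgroup.coe_mul, LinearEquiv.mul_apply, LinearEquiv.mul_apply, hg]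
    constructor
    · intro h
      rw [h, map_smul, ← hg]
      exact congrArg _ (Herm.inv_apply_self' g.1 σ.y)
    · intro h
      rw [← hg, ← map_smul, ← h, hg, ← LinearEquiv.mul_apply g.1, ← Subgroup.coe_mul, mul_inv_cancel]
      rfl
  rw [hP]
  exact Subgroup.relIndex_map_map_of_injective _ _ (MulAut.conj g).injective

/-- The central part is trivial, read on cosets. -/
def Bot (τ : Fr B) (H : Subgroup (Herm.suG B)) (g : Herm.suG B) : Prop :=
  ∀ c, g * τ.tvc c * g⁻¹ ∈ H → c = 0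

theorem Bot_left (τ : Fr B) {H : Subgroup (Herm.suG B)} {h : Herm.suG B} (hh : h ∈ H) (g : Herm.suG B) :
    Bot τ H (h * g) ↔ Bot τ H g := by
  refine forall_congr' fun c => imp_congr_left ?_
  rw [show h * g * τ.tvc c * (h * g)⁻¹ = h * (g * τ.tvc c * g⁻¹) * h⁻¹ by group]
  exact ⟨fun hx => by simpa [mul_assoc] using H.mul_mem (H.mul_mem (H.inv_mem hh) hx) hh,
    fun hx => H.mul_mem (H.mul_mem hh hx) (H.inv_mem hh)⟩

theorem Bot_right (τ : Fr B) {H : Subgroup (Herm.suG B)} {k : Herm.suG B} (hk : k ∈ τ.P) {g : Herm.suG B}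
    (hg : Bot τ H g) : Bot τ H (g * k) := by
  intro c hc
  obtain ⟨a, ha⟩ := hk
  obtain ⟨c', hc', e, h0⟩ := τ.conj_sh ha 0 (c : F) (τ.skew_cond c.2)
  have hskew : c' ∈ skew θ := by rw [mem_skew]; simpa using hc'
  have e' : k * τ.tvc c * k⁻¹ = τ.tvc ⟨c', hskew⟩ := by
    rw [Fr.tvc, e, Fr.tvc]; exact τ.sh_congr (by simp) rfl
  rw [show g * k * τ.tvc c * (g * k)⁻¹ = g * (k * τ.tvc c * k⁻¹) * g⁻¹ by group, e'] at hc
  have h1 : c' = 0 := congrArg Subtype.val (hg _ hc)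
  rw [h0 rfl] at h1
  exact Subtype.ext ((mul_eq_zero.1 h1).resolve_left (mul_ne_zero a.ne_zero ((map_ne_zero θ).2 a.ne_zero)))

theorem Bot_iff (τ : Fr B) (H : Subgroup (Herm.suG B)) (g : Herm.suG B) :
    Bot τ H g⁻¹ ↔ τ.Zp (conjS g H) = ⊥ := by
  rw [AddSubgroup.eq_bot_iff_forall]
  refine forall_congr' fun c => imp_congr_left ?_
  rw [τ.mem_Zp, mem_conjS, inv_inv]

/-- A coset with trivial and one with non-trivial central part lie in different orbits. -/
theorem two_orbits (τ : Fr B) {H : Subgroup (Herm.suG B)} (h0 : τ.Zp H = ⊥) {g : Herm.suG B}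
    (h1 : τ.Zp (conjS g H) ≠ ⊥) : H.relIndex τ.P + (conjS g H).relIndex τ.P ≤ H.index := by
  classical
  have := Fr.finite_su (B := B)
  set Q : Herm.suG B ⧸ H → Prop := fun x => Bot τ H x.out⁻¹ with hQd
  have hQmk : ∀ g : Herm.suG B, Q g ↔ τ.Zp (conjS g H) = ⊥ := fun g => by
    obtain ⟨i, hi⟩ := QuotientGroup.mk_out_eq_mul H g
    rw [← Bot_iff]
    show Bot τ H _ ↔ _
    rw [hi, mul_inv_rev, Bot_left τ (inv_mem i.2)]
  have hQinv : ∀ k ∈ τ.P, ∀ x, Q x → Q (k • x) := fun k hk x => by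
    induction x using QuotientGroup.induction_on with
    | _ g =>
      show Q g → Q ((k * g : Herm.suG B) : Herm.suG B ⧸ H)
      rw [hQmk, hQmk, ← Bot_iff, ← Bot_iff, mul_inv_rev]
      exact Bot_right τ (inv_mem hk)
  have hA : H.relIndex τ.P ≤ Nat.card {x // Q x} := by
    have := orbit_le H τ.P Q hQinv (g := 1) ((hQmk 1).2 (by rw [conjS_one]; exact h0))
    rwa [← conjS, conjS_one] at this
  have hB : (conjS g H).relIndex τ.P ≤ Nat.card {x // ¬Q x} :=
    orbit_le H τ.P (fun x => ¬Q x) (fun k hk x hx hx' => hx (by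
      have := hQinv k⁻¹ (inv_mem hk) _ hx'
      rwa [inv_smul_smul] at this)) (fun hc => h1 ((hQmk g).1 hc))
  have hsum : Nat.card {x // Q x} + Nat.card {x // ¬Q x} = H.index := by
    rw [← Nat.card_sum, Nat.card_congr (Equiv.sumCompl Q)]; rfl
  omega

/-- A root point with a proper vector part. -/
theorem fixed_ge (τ : Fr B) {H : Subgroup (Herm.suG B)} (hd : finrank F V = 4) (hS : τ.Sb H ≠ ⊤) :
    Nat.card (Herm.fixField θ) + 1 ≤ H.relIndex τ.P := by
  classical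
  have : Finite τ.W := Module.finite_of_finite F
  have := Fr.finite_su (B := τ.BW)
  have hθ := τ.hB.toIsInvol
  have hdW : finrank F τ.W = 2 := by have := τ.finrank_W; omega
  rw [τ.relIndex_P H (by omega)]
  have hz1 : 1 ≤ (τ.Zp H).index := Nat.pos_of_ne_zero AddSubgroup.index_ne_zero_of_finite
  suffices Nat.card (Herm.fixField θ) + 1 ≤ (τ.I1 H).index * (τ.Sb H).index by
    calc _ ≤ 1 * ((τ.I1 H).index * ((τ.Sb H).index * 1)) := by rw [one_mul, mul_one]; exact this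
      _ ≤ _ := by gcongr; exact τ.T2_pos H
  obtain ⟨U, hUc, hUinv⟩ := τ.exists_annih H
  have hU0 : U ≠ ⊥ := fun h0 => hS (AddSubgroup.index_eq_one.1 (by rw [← hUc, h0, AddSubgroup.card_bot]))
  set J := τ.I1 H with hJ
  by_contra hc
  push Not at hc
  have hJi := J.card_mul_index
  rw [card_su τ.hB_W hdW] at hJi
  rw [← hUc] at hc
  have hq := two_le_fix hθ
  set q := Nat.card (Herm.fixField θ) with hqd
  have hi0 : 0 < J.index := τ.I1_pos H
  have hJbig : (q ^ 2 - 1) * Nat.card U ≤ Nat.card J := by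
    refine Nat.le_of_mul_le_mul_left ?_ (show 0 < q by omega)
    calc q * ((q ^ 2 - 1) * Nat.card U) = Nat.card J * (J.index * Nat.card U) := by
          rw [← mul_assoc, ← hJi]; ring
      _ ≤ Nat.card J * q := Nat.mul_le_mul_left _ (by omega)
      _ = _ := mul_comm _ _
  have hqq : q + 1 ≤ q ^ 2 - 1 + 1 := by
    have h4 : 2 * q ≤ q ^ 2 := by rw [pow_two]; exact Nat.mul_le_mul_right _ hq
    omega
  obtain ⟨u, hu, hu0⟩ : ∃ u ∈ U, u ≠ 0 := by
    by_contra hc; push Not at hc; exact hU0 ((AddSubgroup.eq_bot_iff_forall _).2 hc)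
  have hUpos : 0 < Nat.card U := Nat.card_pos
  have hT : ((U : Set τ.W) \ {0}).ncard + 1 ≤ Nat.card U := by
    rw [Set.ncard_sdiff_singleton_of_mem (SetLike.mem_coe.2 U.zero_mem), ← Nat.card_coe_set_eq]
    show Nat.card U - 1 + 1 ≤ Nat.card U
    omega
  have hmap : ∀ g ∈ J, g.1 u ∈ (U : Set τ.W) \ {0} := fun g hg =>
    ⟨hUinv g hg u hu, fun e => hu0 (g.1.map_eq_zero_iff.1 e)⟩
  have hbig' : q * Nat.card U ≤ (q ^ 2 - 1) * Nat.card U := Nat.mul_le_mul_right _ (by omega)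
  have h1q : Nat.card U ≤ q * Nat.card U := Nat.le_mul_of_pos_left _ (by omega)
  by_cases huu : τ.BW u u = 0
  · obtain ⟨ρ, rfl⟩ := exists_frame τ.hB_W hu0 huu
    have h1 := card_le_iso ρ hdW J _ hmap
    have hZq : Nat.card (ρ.Zp J) ≤ q := by
      rw [hqd, ← card_skew hθ]
      exact Nat.card_le_card_of_injective _ Subtype.val_injective
    have h2 : Nat.card J + q ≤ q * Nat.card U := by
      calc Nat.card J + q ≤ ((U : Set τ.W) \ {0}).ncard * q + q :=
            Nat.add_le_add_right (h1.trans (Nat.mul_le_mul_left _ hZq)) _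
        _ = q * (((U : Set τ.W) \ {0}).ncard + 1) := by ring
        _ ≤ _ := Nat.mul_le_mul_left _ hT
    omega
  · have := card_le_aniso τ.hB_W hdW J huu _ hmap
    omega

/-- The bound when the root points are pairwise orthogonal. -/
theorem orth_ge (h : Herm.IsHerm B) (hd : finrank F V = 4) {H : Subgroup (Herm.suG B)}
    (horth : ∀ a b, B a a = 0 → B b b = 0 → HasRoot H a → HasRoot H b → B a b = 0) (σ : Fr B)
    (hσ : HasRoot H σ.y) :
    (Nat.card (Herm.fixField θ) + 1) * (Nat.card (Herm.fixField θ) ^ 3 + 1) ≤ H.index := by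
  classical
  have := Fr.finite_su (B := B)
  by_cases hsingle : ∀ g ∈ H, ∃ a : F, g.1 σ.y = a • σ.y
  · have hle : H ≤ σ.P := fun g hg => by
      obtain ⟨a, ha⟩ := hsingle g hg
      exact ⟨Units.mk0 a fun h0 => σ.y_ne (g.1.map_eq_zero_iff.1 (by rw [ha, h0, zero_smul])), ha⟩
    refine le_trans ?_ (Nat.le_of_dvd (Nat.pos_of_ne_zero Subgroup.index_ne_zero_of_finite)
      (Subgroup.index_dvd_of_le hle))
    rw [SUE.index_P σ (k := 2) (by omega) le_rfl, SUE.Ne_two, mul_comm (_ + 1)]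
    refine Nat.mul_le_mul_left _ (Nat.add_le_add_right ?_ 1)
    exact Nat.le_self_pow (by omega) _
  push Not at hsingle
  obtain ⟨g, hg, hga⟩ := hsingle
  set b := g.1 σ.y with hb
  have hbb : B b b = 0 := by rw [hb, g.2.1]; exact σ.hyy
  have hbr : HasRoot H b := hasRoot_image hg hσ
  have hyb : B σ.y b = 0 := horth _ _ σ.hyy hbb hσ hbr
  have hdW : finrank F σ.W = 2 := by have := σ.finrank_W; omega
  have hbd : b = (σ.pr b : V) + B σ.f b • σ.y := by
    conv_lhs => rw [σ.decomp b, hyb, zero_smul, add_zero]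
  have he0 : σ.pr b ≠ 0 := fun e => hga (B σ.f b) (by rw [e, Submodule.coe_zero, zero_add] at hbd; exact hbd)
  have hee : σ.BW (σ.pr b) (σ.pr b) = 0 := by
    rw [σ.BW_apply]
    have := σ.B_decomp b b
    rw [hbb, hyb, map_zero, mul_zero, zero_mul, add_zero, add_zero] at this
    exact this.symm
  obtain ⟨ρ, hρ⟩ := exists_frame σ.hB_W he0 hee
  have hin : ∀ x, B x x = 0 → HasRoot H x → InL σ ρ x := fun x hxx hx => by
    refine ⟨horth _ _ σ.hyy hxx hσ hx, ?_⟩
    have h1 := horth _ _ hbb hxx hbr hx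
    rw [hbd, map_add, LinearMap.add_apply, map_smulₛₗ, LinearMap.smul_apply,
      horth _ _ σ.hyy hxx hσ hx, smul_zero, add_zero] at h1
    rw [hρ]; exact h1
  have hle : H ≤ lineStab σ ρ := fun k hk => by
    refine mem_lineStab σ ρ hdW (hin _ (by rw [k.2.1]; exact σ.hyy) (hasRoot_image hk hσ)) ?_
    have hkb := hin _ (by rw [k.2.1]; exact hbb) (hasRoot_image hk hbr)
    have hky := hin _ (by rw [k.2.1]; exact σ.hyy) (hasRoot_image hk hσ)
    have e : (ρ.y : V) = b - B σ.f b • σ.y := by rw [hρ, eq_sub_iff_add_eq]; exact hbd.symm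
    rw [e, map_sub, map_smul]
    exact ⟨by rw [map_sub, map_smul, hkb.1, hky.1, smul_zero, sub_zero],
      by rw [map_sub, map_smul, hkb.2, hky.2, smul_zero, sub_zero]⟩
  rw [← index_lineStab σ ρ hdW hd]
  exact Nat.le_of_dvd (Nat.pos_of_ne_zero Subgroup.index_ne_zero_of_finite) (Subgroup.index_dvd_of_le hle)

/-- The bound over at least three elements. -/
theorem bound_four (h : Herm.IsHerm B) (hd : finrank F V = 4) (hq : 3 ≤ Nat.card (Herm.fixField θ))
    (H : Subgroup (Herm.suG B)) (hH : H ≠ ⊤) :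
    (Nat.card (Herm.fixField θ) + 1) * (Nat.card (Herm.fixField θ) ^ 3 + 1) ≤ H.index := by
  classical
  have := Fr.finite_su (B := B)
  set q := Nat.card (Herm.fixField θ) with hqd
  obtain ⟨v, hv0, hvv, hv⟩ : ∃ v : V, v ≠ 0 ∧ B v v = 0 ∧ ¬HasRoot H v := by
    by_contra hc
    push Not at hc
    exact hH (eq_top_of_roots h (by omega) (.inr (by omega)) hc)
  obtain ⟨τ0, rfl⟩ := exists_frame h hv0 hvv
  rw [τ0.hasRoot_iff] at hv
  by_contra hlt
  push Not at hlt
  have hsmall : ∀ τ : Fr B, ¬((q + 1) * (q ^ 3 + 1) ≤ H.relIndex τ.P) := fun τ hc =>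
    (hc.trans (τ.relIndex_le_index H)).not_gt hlt
  have hdW : ∀ τ : Fr B, finrank F τ.W = 2 := fun τ => by have := τ.finrank_W; omega
  obtain ⟨τ, hτZ, hτ, ρ, hτI, hτS⟩ : ∃ τ : Fr B, τ.Zp H = ⊥ ∧ q ^ 4 + q ^ 3 ≤ H.relIndex τ.P ∧
      ∃ ρ : Fr τ.BW, τ.I1 H = ρ.P ∧ ∀ u, u ∈ τ.Sb H ↔ τ.BW ρ.y u = 0 := by
    rcases (moved_cases τ0 H hd hq hv).2 with h1 | h1 | ⟨h2, -, ρ, hL⟩
    · exact absurd h1 (hsmall _)
    · exact ⟨τ0, h1⟩
    obtain ⟨σ, hσ⟩ := exists_trivial_centre τ0 (hdW τ0) h2 H ρ hL hv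
    have hne : σ.Zp H ≠ ⊤ := fun e => by
      rw [hσ] at e
      have := congrArg (fun S : AddSubgroup (skew θ) => Nat.card S) e
      simp only [AddSubgroup.card_bot, AddSubgroup.card_top, card_skew h.toIsInvol] at this
      omega
    rcases (moved_cases σ H hd hq hne).2 with h1 | h1 | ⟨-, h3, -⟩
    · exact absurd h1 (hsmall _)
    · exact ⟨σ, h1⟩
    · exact absurd hσ h3
  obtain ⟨σ, hσ⟩ := borel_root τ (hdW τ) hq hτZ ρ hτI hτS
  have hb : (q + 1) * (q ^ 3 + 1) = q ^ 4 + q ^ 3 + q + 1 := by ring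
  have hadd : ∀ π : Fr B, π.Zp H ≠ ⊥ → q + 1 ≤ H.relIndex π.P → False := fun π hπ hge => by
    obtain ⟨g, hg⟩ := trans_iso h (by omega) π.y_ne π.hyy τ.y_ne τ.hyy
    have h2 := two_orbits τ hτZ (g := g) (by rw [Zp_conjS π τ hg]; exact hπ)
    rw [relIndex_conjS π τ hg] at h2
    omega
  by_cases hfix : σ.Zp H = ⊤
  swap
  · refine hadd σ hσ (le_trans ?_ (moved_cases σ H hd hq hfix).1)
    rw [← hqd]
    have : q * 9 ≤ q ^ 3 := by rw [pow_succ' q 2]; exact Nat.mul_le_mul_left _ (Nat.pow_le_pow_left hq 2)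
    omega
  have hroot : HasRoot H σ.y := σ.hasRoot_iff.2 hfix
  by_cases horth : ∀ a b, B a a = 0 → B b b = 0 → HasRoot H a → HasRoot H b → B a b = 0
  · exact (orth_ge h hd horth σ hroot).not_gt hlt
  push Not at horth
  obtain ⟨a, b, haa, hbb, ha, hb', hab⟩ := horth
  obtain ⟨π, hπ, hπS⟩ := exists_fixed_frame h (by omega) (by omega) hH haa hbb hab ha hb'
  refine hadd π (fun e => ?_) (fixed_ge π hd hπS)
  have e1 := π.hasRoot_iff.1 hπ
  rw [e] at e1
  have := congrArg (fun S : AddSubgroup (skew θ) => Nat.card S) e1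
  simp only [AddSubgroup.card_bot, AddSubgroup.card_top, card_skew h.toIsInvol] at this
  omega

end Cfsg.Agent.MinIndexForm.SUF
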