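import Cfsg.Agent.MinIndexForm.SUF.Even
import Cfsg.Agent.MinIndexForm.SUE.Counts

/-!
Lower bounds for the orbit at a moved point of a four-dimensional unitary space.
-/

set_option autoImplicit false

namespace Cfsg.Agent.MinIndexForm.SUF

open Cfsg.Agent.Classical Cfsg.Agent.MinIndexForm.SU Module

universe uF uV
variable {F : Type uF} {V : Type uV} [Field F] [AddCommGroup V] [Module F V] {θ : F →+* F}
  {B : V →ₛₗ[θ] V →ₗ[F] F} [Finite F] [FiniteDimensional F V]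

/-- A real vector part of size `q ^ 2` inside a plane is closed under fixed scalars. -/
theorem smul_mem_of_real (h : Herm.IsHerm B) (hd : finrank F V = 2) (L : AddSubgroup V)
    (hL : Nat.card L = Nat.card (Herm.fixField θ) ^ 2) (hreal : ∀ u ∈ L, ∀ v ∈ L, θ (B u v) = B u v)
    {a b : V} (ha : a ∈ L) (hb : b ∈ L) (haa : B a a = 0) (hab : B a b ≠ 0) {r : F} (hr : θ r = r) {v : V}
    (hv : v ∈ L) : r • v ∈ L := by
  classical
  have : Finite V := Module.finite_of_finite F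
  have ha0 : a ≠ 0 := fun e => hab (by simp [e])
  obtain ⟨ρ, rfl⟩ := exists_frame h ha0 haa
  let U := {x : V | θ (B ρ.y x) = B ρ.y x ∧ θ (B b x) = B b x}
  have hLU : (L : Set V) ⊆ U := fun x hx => ⟨hreal _ ha x hx, hreal _ hb x hx⟩
  have hinj : Function.Injective fun x : U =>
      ((⟨B ρ.y x.1, x.2.1⟩ : Herm.fixField θ), (⟨B b x.1, x.2.2⟩ : Herm.fixField θ)) := fun x x' e => by
    obtain ⟨e1', e2'⟩ := Prod.mk.inj e
    have e1 : B ρ.y x.1 = B ρ.y x'.1 := congrArg Subtype.val e1'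
    have e2 : B b x.1 = B b x'.1 := congrArg Subtype.val e2'
    have hd0 : B ρ.y (x.1 - x'.1) = 0 := by rw [map_sub, e1, sub_self]
    have hd1 : B b (x.1 - x'.1) = 0 := by rw [map_sub, e2, sub_self]
    have e3 := decomp2 ρ hd (x.1 - x'.1)
    rw [hd0, zero_smul, add_zero] at e3
    rw [e3, map_smul, smul_eq_mul, mul_eq_zero] at hd1
    rw [hd1.resolve_right fun e4 => hab ((Herm.eq_zero_comm h).1 e4), zero_smul] at e3
    exact Subtype.ext (sub_eq_zero.1 e3)
  have hU : U.ncard ≤ (L : Set V).ncard := by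
    rw [← Nat.card_coe_set_eq, ← Nat.card_coe_set_eq, show Nat.card ↥(L : Set V) = Nat.card L from rfl, hL, pow_two,
      ← Nat.card_prod]
    exact Nat.card_le_card_of_injective _ hinj
  have he := Set.eq_of_subset_of_ncard_le hLU hU
  show r • v ∈ (L : Set V)
  rw [he]
  obtain ⟨h1, h2⟩ := hLU hv
  exact ⟨by rw [map_smul, smul_eq_mul, map_mul, hr, h1], by rw [map_smul, smul_eq_mul, map_mul, hr, h2]⟩

/-- An isotropic line containing a subgroup. -/
theorem line_sub (ρ : Fr B) (hd : finrank F V = 2) (L : AddSubgroup V) (hL : ∀ v ∈ L, B ρ.y v = 0) :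
    (∀ v, v ∈ L ↔ B ρ.y v = 0) ∨ 2 * Nat.card L ≤ Nat.card (Herm.fixField θ) ^ 2 := by
  classical
  have hθ := ρ.hB.toIsInvol
  let f : F →+ V := AddMonoidHom.mk' (fun a => a • ρ.y) fun a b => add_smul a b _
  by_cases hS : L.comap f = ⊤
  · refine Or.inl fun v => ⟨hL v, fun hv => ?_⟩
    have e := decomp2 ρ hd v
    rw [hv, zero_smul, add_zero] at e
    have : B ρ.f v ∈ L.comap f := hS ▸ AddSubgroup.mem_top _
    rw [e]
    exact this
  refine Or.inr (le_trans (Nat.mul_le_mul_left 2 ?_) ((two_mul_card_le hS).trans (Herm.card_eq_fix_sq hθ).le))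
  refine Nat.card_le_card_of_injective (fun v : L => (⟨B ρ.f v.1, ?_⟩ : L.comap f)) fun v v' e => ?_
  · show B ρ.f v.1 • ρ.y ∈ L
    have e := decomp2 ρ hd v.1
    rw [hL _ v.2, zero_smul, add_zero] at e
    rw [← e]; exact v.2
  · have e' : B ρ.f v.1 = B ρ.f v'.1 := congrArg (fun a : L.comap f => (a : F)) e
    refine Subtype.ext ?_
    rw [decomp2 ρ hd v.1, decomp2 ρ hd v'.1, hL _ v.2, hL _ v'.2, e']

variable (τ : Fr B) (K : Subgroup (Herm.suG B))

theorem tz_ge (hZ : τ.Zp K ≠ ⊤) : Nat.card (Herm.fixField θ) ≤ (τ.T2 K).index * (τ.Zp K).index := by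
  have := τ.mul_ge K hZ
  have := τ.T2_pos K
  omega

/-- If the torus and central indices are as small as possible, the central part is trivial. -/
theorem Zp_bot (hZ : τ.Zp K ≠ ⊤)
    (h : (τ.T2 K).index * (τ.Zp K).index ≤ Nat.card (Herm.fixField θ)) : τ.Zp K = ⊥ := by
  have h1 := τ.mul_ge K hZ
  have h2 := τ.T2_pos K
  have hT : (τ.T2 K).index = 1 := by omega
  rw [hT, one_mul] at h h1
  have h3 := (τ.Zp K).card_mul_index
  rw [card_skew τ.hB.toIsInvol] at h3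
  have hz : (τ.Zp K).index = Nat.card (Herm.fixField θ) := by omega
  rw [hz] at h3
  exact AddSubgroup.card_eq_one.1 (Nat.eq_of_mul_eq_mul_right
    (zero_lt_two.trans_le (two_le_fix τ.hB.toIsInvol)) (h3.trans (one_mul _).symm))

theorem real_of_bot (hZ : τ.Zp K = ⊥) {u v : τ.W} (hu : u ∈ τ.Sb K) (hv : v ∈ τ.Sb K) :
    θ (τ.BW u v) = τ.BW u v := by
  have := τ.comm_Sb K hu hv (τ.comm_skew u v)
  rw [hZ, AddSubgroup.mem_bot] at this
  have e : B (v : V) (u : V) - B (u : V) (v : V) = 0 := congrArg Subtype.val this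
  rw [τ.BW_apply, τ.hB.symm]
  exact sub_eq_zero.1 e

/-- The kinds of moved points with a small orbit. -/
theorem moved_cases (hd : finrank F V = 4) (hq : 3 ≤ Nat.card (Herm.fixField θ)) (hZ : τ.Zp K ≠ ⊤) :
    Nat.card (Herm.fixField θ) ^ 3 ≤ K.relIndex τ.P ∧
      ((Nat.card (Herm.fixField θ) + 1) * (Nat.card (Herm.fixField θ) ^ 3 + 1) ≤ K.relIndex τ.P ∨
        (τ.Zp K = ⊥ ∧
            Nat.card (Herm.fixField θ) ^ 4 + Nat.card (Herm.fixField θ) ^ 3 ≤ K.relIndex τ.P ∧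
            ∃ ρ : Fr τ.BW, τ.I1 K = ρ.P ∧ ∀ u, u ∈ τ.Sb K ↔ τ.BW ρ.y u = 0) ∨
        ((2 : F) = 0 ∧ τ.Zp K ≠ ⊥ ∧
            ∃ ρ : Fr τ.BW, ∀ v, v ∈ τ.Sb K ↔ θ (τ.BW ρ.f v) = τ.BW ρ.f v ∧ τ.BW ρ.y v ∈ skew θ)) := by
  classical
  have : Finite τ.W := Module.finite_of_finite F
  have := Fr.finite_su (B := τ.BW)
  have hθ := τ.hB.toIsInvol
  have hdW : finrank F τ.W = 2 := by have := τ.finrank_W; omega
  rw [τ.relIndex_P K (by omega)]
  set q := Nat.card (Herm.fixField θ) with hqd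
  set T := (τ.T2 K).index with hTd
  set z := (τ.Zp K).index with hzd
  set w := (τ.Sb K).index with hwd
  set i := (τ.I1 K).index with hid
  have hw : q ^ 2 ≤ w := τ.Sb_index_ge K hdW hZ
  have htz : q ≤ T * z := tz_ge τ K hZ
  have hi1 : 1 ≤ i := τ.I1_pos K
  have hsw := (τ.Sb K).card_mul_index
  rw [τ.card_W hdW, ← hwd, ← hqd, show 2 * 2 = 4 from rfl] at hsw
  have hre : T * (i * (w * z)) = i * w * (T * z) := by ring
  rw [hre]
  have hbound : (q + 1) * (q ^ 3 + 1) = q ^ 4 + q ^ 3 + q + 1 := by ring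
  rw [hbound]
  have hq3 : q + 1 ≤ q ^ 3 := by
    have h1 : q * 9 ≤ q ^ 3 := by rw [pow_succ' q 2]; exact Nat.mul_le_mul_left _ (Nat.pow_le_pow_left hq 2)
    omega
  refine ⟨?_, ?_⟩
  · calc q ^ 3 = 1 * q ^ 2 * q := by ring
      _ ≤ i * w * (T * z) := by gcongr
  by_cases hS : τ.Sb K = ⊥
  · refine Or.inl ?_
    rw [hS, AddSubgroup.card_bot, one_mul] at hsw
    rw [hsw]
    calc q ^ 4 + q ^ 3 + q + 1 ≤ 1 * q ^ 4 * q := by
          rw [one_mul]
          have h1 : q ^ 4 * 3 ≤ q ^ 4 * q := Nat.mul_le_mul_left _ hq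
          have h2 : q ^ 3 ≤ q ^ 4 := Nat.pow_le_pow_right (by omega) (by omega)
          omega
      _ ≤ i * q ^ 4 * (T * z) := by gcongr
  set J := τ.I1 K with hJd
  set L := τ.Sb K with hLd
  have hJi := J.card_mul_index
  rw [card_su τ.hB_W hdW, ← hid, ← hqd] at hJi
  by_cases hJ : Nat.card J < q * (q - 1)
  · refine Or.inl ?_
    have hi2 : q + 2 ≤ i := by
      by_contra hc
      push Not at hc
      have h1 : Nat.card J * i < q * (q - 1) * i := Nat.mul_lt_mul_of_pos_right hJ hi1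
      have h2 : q * (q - 1) * i ≤ q * (q - 1) * (q + 1) := Nat.mul_le_mul_left _ (by omega)
      have h3 : q * (q - 1) * (q + 1) = q * (q ^ 2 - 1) := by
        rw [mul_assoc, mul_comm (q - 1), ← Nat.sq_sub_sq, one_pow]
      omega
    calc q ^ 4 + q ^ 3 + q + 1 ≤ (q + 2) * q ^ 2 * q := by
          have : (q + 2) * q ^ 2 * q = q ^ 4 + 2 * q ^ 3 := by ring
          omega
      _ ≤ i * w * (T * z) := by gcongr
  push Not at hJ
  have hsmall : Nat.card L ≤ q ^ 2 := by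
    refine Nat.le_of_mul_le_mul_right ?_ (show 0 < q ^ 2 by positivity)
    calc Nat.card L * q ^ 2 ≤ Nat.card L * w := Nat.mul_le_mul_left _ hw
      _ = q ^ 2 * q ^ 2 := by rw [hsw]; ring
  have hinv : ∀ g ∈ J, ∀ x ∈ L, g.1 x ∈ L := fun g hg x hx => τ.Sb_inv_I1 K hg hx
  have hi_of : Nat.card J = q * (q - 1) → i = q + 1 := fun e => by
    rw [e] at hJi
    refine Nat.eq_of_mul_eq_mul_left (show 0 < q * (q - 1) from Nat.mul_pos (by omega) (by omega)) ?_
    rw [hJi, mul_assoc, mul_comm (q - 1), ← Nat.sq_sub_sq, one_pow]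
  by_cases hA : ∃ u ∈ L, τ.BW u u ≠ 0
  · obtain ⟨u, hu, huu⟩ := hA
    obtain ⟨hLc, hJc, hsph, x, hx, hx0, hxx, hxu, hxb⟩ := shape_aniso τ.hB_W hdW hq J L hinv hJ hsmall hu huu
    have hi := hi_of hJc
    by_cases hTz : T * z ≤ q
    swap
    · refine Or.inl ?_
      calc q ^ 4 + q ^ 3 + q + 1 ≤ (q + 1) * q ^ 2 * (q + 1) := by
            have : (q + 1) * q ^ 2 * (q + 1) = q ^ 4 + 2 * q ^ 3 + q ^ 2 := by ring
            omega
        _ ≤ i * w * (T * z) := by rw [hi]; gcongr; omega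
    exfalso
    have hZb := Zp_bot τ K hZ hTz
    obtain ⟨k, hk0, hk⟩ := Herm.exists_skew hθ
    have hks : k ∈ skew θ := by rw [mem_skew, hk, add_neg_cancel]
    have hkx := real_of_bot τ K hZb hu (hxb k hks)
    rw [map_smul, smul_eq_mul, ← τ.hB_W.symm x u, map_mul, map_mul, τ.hB.invol, hk] at hkx
    have h2 : (2 : F) = 0 := by
      have h3 : (2 : F) * (k * τ.BW x u * θ (τ.BW x u)) = 0 := by linear_combination -hkx
      refine (mul_eq_zero.1 h3).resolve_right (mul_ne_zero (mul_ne_zero hk0 hxu) ?_)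
      exact (map_ne_zero θ).2 hxu
    obtain ⟨r, hr, hr0, hr1⟩ : ∃ r : F, θ r = r ∧ r ≠ 0 ∧ r ≠ 1 := by
      by_contra hc
      push Not at hc
      have : q ≤ 2 := by
        have : Fintype (Herm.fixField θ) := Fintype.ofFinite _
        rw [hqd, Nat.card_eq_fintype_card, ← Finset.card_univ]
        refine le_trans (Finset.card_le_card (t := {0, 1}) fun y _ => ?_) Finset.card_le_two
        rcases eq_or_ne y 0 with rfl | hy
        · simp
        · simp [Subtype.ext_iff, hc y.1 y.2 fun e => hy (Subtype.ext e)]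
      omega
    have hru : r • u ∈ L := smul_mem_of_real τ.hB_W hdW L hLc (fun a ha b hb => real_of_bot τ K hZb ha hb)
      hx hu hxx hxu hr hu
    have e := hsph _ hru (by rw [Herm.smul_self τ.hB_W, hr]; exact mul_ne_zero (mul_ne_zero hr0 hr0) huu)
    rw [Herm.smul_self τ.hB_W, hr] at e
    have e2 : (r - 1) * (r - 1) * τ.BW u u = 0 := by
      linear_combination e + (1 - r) * τ.BW u u * h2
    exact hr1 (sub_eq_zero.1 (mul_self_eq_zero.1 ((mul_eq_zero.1 e2).resolve_right huu)))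
  push Not at hA
  rcases shape_iso τ.hB_W hdW hq J L hinv hJ hS hA with ⟨ρ, hJP, hline⟩ | ⟨ρ, hLρ⟩
  · have hi := hi_of (by rw [hJP]; exact card_P ρ hdW)
    rcases line_sub ρ hdW L hline with hfull | hhalf
    swap
    · refine Or.inl ?_
      have hw2 : 2 * q ^ 2 ≤ w := by
        refine Nat.le_of_mul_le_mul_left ?_ (show 0 < q ^ 2 by positivity)
        calc q ^ 2 * (2 * q ^ 2) = 2 * (Nat.card L * w) := by rw [hsw]; ring
          _ = 2 * Nat.card L * w := by ring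
          _ ≤ q ^ 2 * w := Nat.mul_le_mul_right _ hhalf
      calc q ^ 4 + q ^ 3 + q + 1 ≤ (q + 1) * (2 * q ^ 2) * q := by
            have : (q + 1) * (2 * q ^ 2) * q = 2 * q ^ 4 + 2 * q ^ 3 := by ring
            omega
        _ ≤ i * w * (T * z) := by rw [hi]; gcongr
    by_cases hTz : T * z ≤ q
    swap
    · refine Or.inl ?_
      calc q ^ 4 + q ^ 3 + q + 1 ≤ (q + 1) * q ^ 2 * (q + 1) := by
            have : (q + 1) * q ^ 2 * (q + 1) = q ^ 4 + 2 * q ^ 3 + q ^ 2 := by ring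
            omega
        _ ≤ i * w * (T * z) := by rw [hi]; gcongr; omega
    refine Or.inr (Or.inl ⟨Zp_bot τ K hZ hTz, ?_, ρ, hJP, hfull⟩)
    calc q ^ 4 + q ^ 3 = (q + 1) * q ^ 2 * q := by ring
      _ ≤ i * w * (T * z) := by rw [hi]; gcongr
  refine Or.inr (Or.inr ?_)
  have h2 : (2 : F) = 0 := by
    by_contra h2
    refine hZ (eq_top_iff.2 fun c _ => ?_)
    obtain ⟨c, hc⟩ := c
    have hy : ρ.y ∈ L := by rw [hLρ, ρ.hfy, ρ.hyy]; exact ⟨map_one θ, zero_mem _⟩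
    have hθc : θ c = -c := eq_neg_of_add_eq_zero_right (mem_skew.1 hc)
    have hf : (c / 2) • ρ.f ∈ L := by
      refine (hLρ _).2 ⟨by simp [ρ.hff], ?_⟩
      simp [ρ.hyf, mem_skew, hθc, neg_div, map_ofNat θ 2]
    refine (congrArg (· ∈ τ.Zp K) (Subtype.ext ?_)).mp (τ.comm_Sb K hf hy (τ.comm_skew _ _))
    show B (ρ.y : V) (((c / 2) • ρ.f : τ.W) : V) - B (((c / 2) • ρ.f : τ.W) : V) (ρ.y : V) = c
    rw [← τ.BW_apply, ← τ.BW_apply, map_smul, map_smulₛₗ, LinearMap.smul_apply, ρ.hyf, ρ.hfy, smul_eq_mul,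
      smul_eq_mul, mul_one, mul_one, map_div₀, hθc, map_ofNat]
    field_simp
    ring
  refine ⟨h2, fun hZb => ?_, ρ, hLρ⟩
  exact absurd (real_small τ hdW h2 K ρ hLρ hq hZb) (not_lt.2 hJ)

end Cfsg.Agent.MinIndexForm.SUF
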