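import Cfsg.Agent.MinIndexForm.SUE.Pair

/-!
The special unitary group of a two-dimensional Hermitian space.
-/

set_option autoImplicit false

namespace Cfsg.Agent.MinIndexForm.SUF

open Cfsg.Agent.Classical Cfsg.Agent.MinIndexForm.SU Module

universe uF uV
variable {F : Type uF} {V : Type uV} [Field F] [AddCommGroup V] [Module F V] {θ : F →+* F}
  {B : V →ₛₗ[θ] V →ₗ[F] F} [Finite F] [FiniteDimensional F V]

section

variable (ρ : Fr B) (hd : finrank F V = 2)
include hd

theorem W_zero (w : ρ.W) : w = 0 := by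
  have h := ρ.finrank_W
  have : Subsingleton ρ.W := Module.finrank_zero_iff.1 (show finrank F ρ.W = 0 by omega)
  exact Subsingleton.elim _ _

theorem decomp2 (x : V) : x = B ρ.f x • ρ.y + B ρ.y x • ρ.f := by
  conv_lhs => rw [ρ.decomp x, W_zero ρ hd (ρ.pr x)]
  simp

theorem eq_tvc_of_fix {g : Herm.suG B} (hg : g.1 ρ.y = ρ.y) : ∃ c, g = ρ.tvc c := by
  have hl : ρ.lam ⟨g, hg⟩ = 1 := Subtype.ext (LinearEquiv.ext fun w =>
    (W_zero ρ hd _).trans (W_zero ρ hd _).symm)
  obtain ⟨hc, e⟩ := ρ.eq_sh hl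
  have h0 := W_zero ρ hd (ρ.pr (g.1 ρ.f))
  refine ⟨⟨B ρ.f (g.1 ρ.f), ?_⟩, e.trans (ρ.sh_congr h0 rfl)⟩
  have hc' := hc
  simp only [h0] at hc'
  rw [mem_skew]
  simpa using hc'

theorem aval_fix {g : Herm.suG B} {a : F} (ha : g.1 ρ.y = a • ρ.y) : θ a = a := by
  have ha0 : a ≠ 0 := fun h => ρ.y_ne (g.1.map_eq_zero_iff.1 (by rw [ha, h, zero_smul]))
  set a' := Units.mk0 a ha0
  set g0 := ρ.ext a'⁻¹ (1 : ρ.W ≃ₗ[F] ρ.W) * g.1 with hg0
  obtain ⟨hc, he⟩ := ρ.eq_eichler (g := g0)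
    (fun x z => by
      simp only [hg0, LinearEquiv.mul_apply]
      rw [ρ.ext_isometry _ (fun u v => rfl), g.2.1])
    (by rw [hg0, LinearEquiv.mul_apply, ha, map_smul, ρ.ext_y, smul_smul]; simp [a', mul_inv_cancel₀ ha0])
    (fun w => (W_zero ρ hd _).trans (W_zero ρ hd _).symm)
  have h1 : LinearEquiv.det g0 = 1 := by
    rw [he]; exact (Herm.eichler_mem ρ.hB ρ.hyy (ρ.Bwy _) hc).2
  rw [hg0, map_mul, g.2.2, mul_one] at h1
  have h2 := congrArg Units.val h1
  rw [ρ.det_ext, map_one, Units.val_one, mul_one, Units.val_inv_eq_inv_val, map_inv₀, inv_inv,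
    Units.val_mk0, inv_mul_eq_one₀ ha0] at h2
  exact h2.symm

theorem ext_mem {a : Fˣ} (ha : θ (a : F) = a) : ρ.ext a (1 : ρ.W ≃ₗ[F] ρ.W) ∈ Herm.suG B :=
  ⟨ρ.ext_isometry a (fun u v => rfl), Units.ext (by
    rw [ρ.det_ext, ha, map_one, Units.val_one, mul_one, mul_inv_cancel₀ a.ne_zero])⟩

theorem tvc_inj {c c' : skew θ} (h : ρ.tvc c = ρ.tvc c') : c = c' := Subtype.ext (ρ.sh_inj h).2

theorem tvc_apply (c : skew θ) (x : V) : (ρ.tvc c).1 x = x + ((c : F) * B ρ.y x) • ρ.y := by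
  rw [Fr.tvc, ρ.sh_coe]; simp

theorem card_P : Nat.card ρ.P = Nat.card (Herm.fixField θ) * (Nat.card (Herm.fixField θ) - 1) := by
  classical
  have : Finite V := Module.finite_of_finite F
  have := Fr.finite_su (B := B)
  have hval : ∀ g : ρ.P, θ (ρ.aval g : F) = ρ.aval g := fun g => aval_fix ρ hd (ρ.aval_spec g)
  let toU : ρ.P → (Herm.fixField θ)ˣ := fun g =>
    Units.mk0 ⟨(ρ.aval g : F), hval g⟩ fun h => (ρ.aval g).ne_zero (congrArg Subtype.val h)
  let e : skew θ × (Herm.fixField θ)ˣ → ρ.P := fun p =>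
    ⟨⟨_, ext_mem ρ hd (a := Units.map (Herm.fixField θ).subtype.toMonoidHom p.2) p.2.1.2⟩ * ρ.tvc p.1,
      Units.map (Herm.fixField θ).subtype.toMonoidHom p.2, by
        rw [Subgroup.coe_mul, LinearEquiv.mul_apply, Fr.tvc, ρ.sh_y, ρ.ext_y]⟩
  have hbij : Function.Bijective e := by
    constructor
    · rintro ⟨c, r⟩ ⟨c', r'⟩ h
      have h' := congrArg (fun z : ρ.P => z.1.1 ρ.y) h
      simp only [e, Subgroup.coe_mul, LinearEquiv.mul_apply, Fr.tvc, ρ.sh_y, ρ.ext_y] at h'
      obtain rfl : r = r' := Units.ext (Subtype.ext (smul_left_injective F ρ.y_ne h'))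
      have h'' := mul_left_cancel (congrArg Subtype.val h)
      obtain rfl : c = c' := tvc_inj ρ hd h''
      rfl
    · intro g
      let r := toU g
      let x : Herm.suG B := ⟨_, ext_mem ρ hd (a := Units.map (Herm.fixField θ).subtype.toMonoidHom r) r.1.2⟩
      have hfix : (x⁻¹ * g.1).1 ρ.y = ρ.y := by
        have hx : x.1 ρ.y = (ρ.aval g : F) • ρ.y := ρ.ext_y _ _
        rw [Subgroup.coe_mul, LinearEquiv.mul_apply, ρ.aval_spec g, ← hx]
        exact Herm.inv_apply_self' x.1 ρ.y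
      obtain ⟨c, hc⟩ := eq_tvc_of_fix ρ hd hfix
      exact ⟨⟨c, r⟩, Subtype.ext (show x * ρ.tvc c = g.1 by rw [← hc, mul_inv_cancel_left])⟩
  rw [← Nat.card_eq_of_bijective e hbij, Nat.card_prod, card_skew ρ.hB.toIsInvol, Nat.card_units]

end

variable (h : Herm.IsHerm B) (hd : finrank F V = 2)
include h hd

theorem eq_one_of_fix_aniso {g : Herm.suG B} {u : V} (hu : B u u ≠ 0) (hg : g.1 u = u) : g = 1 := by
  obtain ⟨c, hc⟩ := Herm.exists_unit_of_ne_zero h hu
  set u1 := c • u with hu1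
  have hg1 : g.1 u1 = u1 := by rw [hu1, map_smul, hg]
  clear_value u1
  obtain ⟨e, he⟩ := Herm.exists_snoc h (a := ![u1]) (fun i j => by fin_cases i; fin_cases j; simpa using hc)
    (by omega)
  have hee : B e e = 1 := by simpa using he (Fin.last 1) (Fin.last 1)
  have heu : B e u1 = 0 := by
    have := he (Fin.last 1) (Fin.castSucc 0)
    rw [Fin.snoc_last, Fin.snoc_castSucc, if_neg (by decide)] at this
    simpa using this
  have hue : B u1 e = 0 := (Herm.eq_zero_comm h).1 heu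
  have hli : LinearIndependent F ![u1, e] := by
    rw [LinearIndependent.pair_iff]
    intro s t hst
    have h1 := congrArg (B u1) hst
    have h2 := congrArg (B e) hst
    simp [hc, hee, heu, hue] at h1 h2
    exact ⟨h1, h2⟩
  have hsp : Submodule.span F (Set.range ![u1, e]) = ⊤ :=
    hli.span_eq_top_of_card_eq_finrank (by simp [hd])
  have hdec : ∀ x, x = B u1 x • u1 + B e x • e := fun x => by
    have hx : x ∈ Submodule.span F (Set.range ![u1, e]) := by rw [hsp]; trivial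
    rw [Matrix.range_cons_cons_empty, Submodule.mem_span_pair] at hx
    obtain ⟨s, t, rfl⟩ := hx
    simp [hc, hee, heu, hue]
  set μ := B e (g.1 e)
  have hge : g.1 e = μ • e := by
    conv_lhs => rw [hdec (g.1 e)]
    have h1 : B u1 (g.1 e) = 0 := by
      conv_lhs => rw [← hg1]
      rw [g.2.1, hue]
    simp [h1, μ]
  have hμ : μ * θ μ = 1 := by
    have := g.2.1 e e
    rw [hge, Herm.smul_self h, hee, mul_one] at this
    exact this
  have hgd : g.1 = dil hee μ hμ := LinearEquiv.ext fun x => by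
    conv_lhs => rw [hdec x]
    rw [dil_apply, map_add, map_smul, map_smul, hg1, hge, smul_smul]
    conv_rhs => arg 1; rw [hdec x]
    module
  have h1 : μ = 1 := by
    have := det_dil hee μ hμ
    rw [← hgd, g.2.2, Units.val_one] at this
    exact this.symm
  exact Subtype.ext (LinearEquiv.ext fun x => by rw [hgd, dil_apply, h1]; simp)

theorem card_su : Nat.card (Herm.suG B) =
    Nat.card (Herm.fixField θ) * (Nat.card (Herm.fixField θ) ^ 2 - 1) := by
  have : Finite V := Module.finite_of_finite F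
  obtain ⟨u, hu⟩ := exists_unit h (by omega)
  have hu0 : B u u ≠ 0 := by rw [hu]; exact one_ne_zero
  let f : Herm.suG B → {x : V // B x x = 1} := fun g => ⟨g.1 u, (g.2.1 u u).trans hu⟩
  have hf : Function.Bijective f := by
    refine ⟨fun g g' e => ?_, fun x => ?_⟩
    · have e' : g.1 u = g'.1 u := congrArg Subtype.val e
      have h1 : (g'⁻¹ * g).1 u = u := by
        rw [Subgroup.coe_mul, LinearEquiv.mul_apply, e']
        exact Herm.inv_apply_self' g'.1 u
      exact (inv_mul_eq_one.1 (eq_one_of_fix_aniso h hd hu0 h1)).symm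
    · obtain ⟨g, hg⟩ := trans_aniso h (by omega) (u := u) (w := x.1) (by rw [x.2]; exact one_ne_zero)
        (hu.trans x.2.symm)
      exact ⟨g, Subtype.ext hg⟩
  rw [Nat.card_eq_of_bijective f hf,
    SUE.card_aniso h (k := 1) (by omega) (map_one θ) one_ne_zero]
  norm_num

end Cfsg.Agent.MinIndexForm.SUF
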