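import Cfsg.Agent.MinIndexForm.SUF.Plane
import Cfsg.Agent.MinIndexForm.SUE.Levels

/-!
Additive subgroups invariant under a large subgroup of a two-dimensional special unitary group.
-/

set_option autoImplicit false

namespace Cfsg.Agent.MinIndexForm.SUF

open Cfsg.Agent.Classical Cfsg.Agent.MinIndexForm.SU Module

universe uF uV
variable {F : Type uF} {V : Type uV} [Field F] [AddCommGroup V] [Module F V] {θ : F →+* F}
  {B : V →ₛₗ[θ] V →ₗ[F] F} [Finite F] [FiniteDimensional F V]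

local notation "q" => Nat.card (Herm.fixField θ)

theorem card_le_stab (J : Subgroup (Herm.suG B)) (x : V) (T : Set V) (hT : ∀ g ∈ J, g.1 x ∈ T) :
    Nat.card J ≤ T.ncard * Nat.card {g : J // g.1.1 x = x} := by
  classical
  have : Finite V := Module.finite_of_finite F
  have := Fr.finite_su (B := B)
  let r : T → J := fun t => if h : ∃ g : J, g.1.1 x = t.1 then h.choose else 1
  have hr : ∀ g : J, (r ⟨_, hT g.1 g.2⟩).1.1 x = g.1.1 x := fun g => by
    have h : ∃ g' : J, g'.1.1 x = g.1.1 x := ⟨g, rfl⟩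
    simp only [r, dif_pos h]
    exact h.choose_spec
  rw [← Nat.card_coe_set_eq, ← Nat.card_prod]
  refine Nat.card_le_card_of_injective (fun g => (⟨_, hT g.1 g.2⟩, ⟨(r ⟨_, hT g.1 g.2⟩)⁻¹ * g, ?_⟩)) ?_
  · rw [Subgroup.coe_mul, Subgroup.coe_inv, Subgroup.coe_mul, LinearEquiv.mul_apply]
    exact (congrArg _ (hr g).symm).trans (Herm.inv_apply_self' (r ⟨_, hT g.1 g.2⟩).1.1 x)
  · intro g g' e
    simp only [Prod.mk.injEq, Subtype.mk.injEq] at e
    obtain ⟨e1, e2⟩ := e
    have e3 : (⟨_, hT g.1 g.2⟩ : T) = ⟨_, hT g'.1 g'.2⟩ := Subtype.ext e1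
    rw [e3] at e2
    exact mul_left_cancel e2

theorem card_le_aniso (h : Herm.IsHerm B) (hd : finrank F V = 2) (J : Subgroup (Herm.suG B)) {u : V}
    (hu : B u u ≠ 0) (T : Set V) (hT : ∀ g ∈ J, g.1 u ∈ T) : Nat.card J ≤ T.ncard := by
  refine (card_le_stab J u T hT).trans ?_
  have : Subsingleton {g : J // g.1.1 u = u} :=
    ⟨fun a b => Subtype.ext (Subtype.ext ((eq_one_of_fix_aniso h hd hu a.2).trans
      (eq_one_of_fix_aniso h hd hu b.2).symm))⟩
  calc _ ≤ T.ncard * 1 := Nat.mul_le_mul_left _ (Finite.card_le_one_iff_subsingleton.2 inferInstance)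
    _ = _ := mul_one _

theorem card_le_iso (ρ : Fr B) (hd : finrank F V = 2) (J : Subgroup (Herm.suG B)) (T : Set V)
    (hT : ∀ g ∈ J, g.1 ρ.y ∈ T) : Nat.card J ≤ T.ncard * Nat.card (ρ.Zp J) := by
  have : Finite V := Module.finite_of_finite F
  have := Fr.finite_su (B := B)
  refine (card_le_stab J ρ.y T hT).trans (Nat.mul_le_mul_left _ ?_)
  have hc : ∀ g : {g : J // g.1.1 ρ.y = ρ.y}, ∃ c : ρ.Zp J, g.1.1 = ρ.tvc c := fun g => by
    obtain ⟨c, hc⟩ := eq_tvc_of_fix ρ hd g.2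
    exact ⟨⟨c, (ρ.mem_Zp J).2 (hc ▸ g.1.2)⟩, hc⟩
  choose c hc using hc
  exact Nat.card_le_card_of_injective c fun a b e => Subtype.ext (Subtype.ext (by rw [hc a, hc b, e]))

theorem two_mul_card_le {A : Type*} [AddGroup A] [Finite A] {S : AddSubgroup A} (hS : S ≠ ⊤) :
    2 * Nat.card S ≤ Nat.card A := by
  rw [← S.card_mul_index, mul_comm]
  refine Nat.mul_le_mul_left _ ?_
  have : S.index ≠ 0 := AddSubgroup.index_ne_zero_of_finite
  have : S.index ≠ 1 := fun h => hS (AddSubgroup.index_eq_one.1 h)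
  omega

variable (h : Herm.IsHerm B) (hd : finrank F V = 2) (hq : 3 ≤ Nat.card (Herm.fixField θ))
  (J : Subgroup (Herm.suG B)) (L : AddSubgroup V) (hinv : ∀ g ∈ J, ∀ x ∈ L, g.1 x ∈ L)
  (hJ : Nat.card (Herm.fixField θ) * (Nat.card (Herm.fixField θ) - 1) ≤ Nat.card J)
include h hd hq hinv hJ

/-- Some vector is anisotropic. -/
theorem shape_aniso (hsmall : Nat.card L ≤ q ^ 2) {u : V} (hu : u ∈ L) (huu : B u u ≠ 0) :
    Nat.card L = q ^ 2 ∧ Nat.card J = q * (q - 1) ∧ (∀ v ∈ L, B v v ≠ 0 → B v v = B u u) ∧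
      ∃ x ∈ L, x ≠ 0 ∧ B x x = 0 ∧ B x u ≠ 0 ∧ ∀ b ∈ skew θ, (b * B x u) • x ∈ L := by
  classical
  have : Finite V := Module.finite_of_finite F
  have := Fr.finite_su (B := B)
  obtain ⟨r, hr⟩ : ∃ r, q = r + 3 := ⟨q - 3, by omega⟩
  have hJ' : q ^ 2 ≤ Nat.card J + q := by
    rw [Nat.mul_sub, mul_one] at hJ
    rw [pow_two]; omega
  have hq9 : 3 * q ≤ q ^ 2 := by rw [pow_two]; exact Nat.mul_le_mul_right _ hq
  let Sp : F → Set V := fun a => {v | v ∈ L ∧ v ≠ 0 ∧ B v v = a}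
  have hsub : ∀ a a', a ≠ a' → (Sp a).ncard + (Sp a').ncard + 1 ≤ Nat.card L := fun a a' ha => by
    rw [← Set.ncard_union_eq (Set.disjoint_left.2 fun v hv hv' => ha (hv.2.2.symm.trans hv'.2.2)),
      ← Set.ncard_insert_of_notMem (a := (0 : V)) (by simp [Sp]),
      show Nat.card L = (L : Set V).ncard from Nat.card_coe_set_eq _]
    refine Set.ncard_le_ncard ?_
    rintro v (rfl | hv | hv)
    · exact L.zero_mem
    · exact hv.1
    · exact hv.1
  have hsphere : ∀ v ∈ L, B v v ≠ 0 → Nat.card J ≤ (Sp (B v v)).ncard := fun v hv hvv =>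
    card_le_aniso h hd J hvv _ fun g hg => by
      refine ⟨hinv g hg v hv, fun e => hvv ?_, g.2.1 v v⟩
      rw [← g.2.1, e]; simp
  have hn0 : ∀ v ∈ L, B v v ≠ 0 → B v v = B u u := fun v hv hvv => by
    by_contra hne
    have := hsub _ _ hne
    have := hsphere v hv hvv
    have := hsphere u hu huu
    omega
  obtain ⟨x, hx, hx0, hxx⟩ : ∃ x ∈ L, x ≠ 0 ∧ B x x = 0 := by
    by_contra hc
    push Not at hc
    have h4 := SUE.card_one_norm (B := B) L huu fun v hv hv0 => hn0 v hv (hc v hv hv0)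
    have h1 := hsphere u hu huu
    have h2 : (Sp (B u u)).ncard + 1 ≤ Nat.card L := by
      rw [← Set.ncard_insert_of_notMem (a := (0 : V)) (by simp [Sp]),
        show Nat.card L = (L : Set V).ncard from Nat.card_coe_set_eq _]
      refine Set.ncard_le_ncard ?_
      rintro v (rfl | hv)
      · exact L.zero_mem
      · exact hv.1
    have : 6 ≤ q * (q - 1) := Nat.mul_le_mul (show 3 ≤ q from hq) (show 2 ≤ q - 1 by omega)
    omega
  obtain ⟨ρ, rfl⟩ := exists_frame h hx0 hxx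
  have h0 := card_le_iso ρ hd J (Sp 0) fun g hg => ⟨hinv g hg _ hx,
    fun e => ρ.y_ne (g.1.map_eq_zero_iff.1 e), (g.2.1 ρ.y ρ.y).trans ρ.hyy⟩
  have h1 := hsphere u hu huu
  have h2 := hsub _ _ huu
  have hZq : Nat.card (ρ.Zp J) ≤ q := by
    rw [← card_skew h.toIsInvol]
    exact Nat.card_le_card_of_injective _ Subtype.val_injective
  have h3 : q * (q - 1) ≤ q * (Sp 0).ncard :=
    hJ.trans (h0.trans (by rw [mul_comm]; exact Nat.mul_le_mul_right _ hZq))
  have h4 : q - 1 ≤ (Sp 0).ncard := Nat.le_of_mul_le_mul_left h3 (by omega)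
  have hn : (Sp 0).ncard = q - 1 := by
    have : q ^ 2 = q * (q - 1) + q := by rw [Nat.mul_sub, mul_one, pow_two, Nat.sub_add_cancel (Nat.le_mul_self q)]
    omega
  have hfull : ρ.Zp J = ⊤ := by
    refine AddSubgroup.eq_top_of_le_card _ ?_
    rw [card_skew h.toIsInvol]
    rw [hn, mul_comm] at h0
    exact Nat.le_of_mul_le_mul_right (hJ.trans h0) (by omega)
  have hqq : q ^ 2 = q * (q - 1) + q := by
    rw [Nat.mul_sub, mul_one, pow_two, Nat.sub_add_cancel (Nat.le_mul_self q)]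
  refine ⟨by omega, by omega, hn0, ρ.y, hx, ρ.y_ne, ρ.hyy, fun e => huu ?_, fun b hb => ?_⟩
  · rw [decomp2 ρ hd u, e]; simp [ρ.hyy]
  · have hm : ρ.tvc ⟨b, hb⟩ ∈ J := (ρ.mem_Zp J).1 (hfull ▸ AddSubgroup.mem_top _)
    have := L.sub_mem (hinv _ hm u hu) hu
    rw [tvc_apply ρ hd, add_sub_cancel_left] at this
    exact this

/-- Every vector is isotropic. -/
theorem shape_iso (hne : L ≠ ⊥) (hiso : ∀ v ∈ L, B v v = 0) :
    (∃ ρ : Fr B, J = ρ.P ∧ ∀ v ∈ L, B ρ.y v = 0) ∨
      ∃ ρ : Fr B, ∀ v, v ∈ L ↔ θ (B ρ.f v) = B ρ.f v ∧ B ρ.y v ∈ skew θ := by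
  classical
  have : Finite V := Module.finite_of_finite F
  have := Fr.finite_su (B := B)
  have hsk : ∀ v ∈ L, ∀ w ∈ L, B v w ∈ skew θ := fun v hv w hw => by
    have := hiso _ (L.add_mem hv hw)
    simp only [map_add, LinearMap.add_apply, hiso v hv, hiso w hw, zero_add, add_zero] at this
    rw [mem_skew, h.symm]
    linear_combination this
  by_cases hline : ∃ x ∈ L, x ≠ 0 ∧ ∀ v ∈ L, B x v = 0
  · obtain ⟨x, hx, hx0, hxv⟩ := hline
    obtain ⟨ρ, rfl⟩ := exists_frame h hx0 (hiso x hx)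
    refine Or.inl ⟨ρ, Subgroup.eq_of_le_of_card_ge (fun g hg => ?_) ((card_P ρ hd).trans_le hJ), hxv⟩
    have e := decomp2 ρ hd (g.1 ρ.y)
    rw [hxv _ (hinv g hg _ hx), zero_smul, add_zero] at e
    exact ⟨Units.mk0 (B ρ.f (g.1 ρ.y)) fun h0 => ρ.y_ne (g.1.map_eq_zero_iff.1 (by rw [e, h0, zero_smul])), e⟩
  push Not at hline
  refine Or.inr ?_
  by_cases hfull : ∀ v ∈ L, ∀ r : F, θ r = r → r • v ∈ L
  · obtain ⟨x, hx, hx0⟩ : ∃ x ∈ L, x ≠ 0 := by
      by_contra hc; push Not at hc; exact hne ((AddSubgroup.eq_bot_iff_forall _).2 hc)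
    obtain ⟨z, hz, hxz⟩ := hline x hx hx0
    obtain ⟨k, hk⟩ : ∃ k, k = B x z := ⟨_, rfl⟩
    have hks := hsk x hx z hz
    rw [← hk, mem_skew] at hks
    have hk' : θ k = -k := eq_neg_of_add_eq_zero_right hks
    rw [← hk] at hxz
    let ρ : Fr B :=
      ⟨h, x, k⁻¹ • z, hiso x hx, by simp [hiso z hz], by simp [← hk, inv_mul_cancel₀ hxz]⟩
    refine ⟨ρ, fun v => ⟨fun hv => ⟨?_, hsk x hx v hv⟩, fun ⟨h1, h2⟩ => ?_⟩⟩
    · have := hsk z hz v hv
      rw [mem_skew] at this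
      show θ (B (k⁻¹ • z) v) = B (k⁻¹ • z) v
      simp only [map_smulₛₗ, LinearMap.smul_apply, smul_eq_mul, map_mul, map_inv₀, h.invol]
      rw [hk', eq_neg_of_add_eq_zero_right this, inv_neg, mul_neg, neg_mul]
    · rw [decomp2 ρ hd v, show ρ.f = k⁻¹ • z from rfl, smul_smul]
      refine L.add_mem (hfull x hx _ h1) (hfull z hz _ ?_)
      rw [map_mul, map_inv₀, hk', eq_neg_of_add_eq_zero_right (mem_skew.1 h2), inv_neg, neg_mul_neg]
  exfalso
  push Not at hfull
  obtain ⟨x, hx, r0, hr0, hr0x⟩ := hfull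
  have hx0 : x ≠ 0 := fun e => hr0x (by rw [e, smul_zero]; exact L.zero_mem)
  obtain ⟨ρ, rfl⟩ := exists_frame h hx0 (hiso x hx)
  let A : AddSubgroup (Herm.fixField θ) :=
    { carrier := {r | (r : F) • ρ.y ∈ L}
      zero_mem' := by simp
      add_mem' := fun {a b} ha hb => by
        simp only [Set.mem_ofPred_eq] at ha hb ⊢
        rw [Subfield.coe_add, add_smul]; exact L.add_mem ha hb
      neg_mem' := fun {a} ha => by
        simp only [Set.mem_ofPred_eq] at ha ⊢
        rw [Subfield.coe_neg, neg_smul]; exact L.neg_mem ha }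
  have hA : A ≠ ⊤ := fun e => hr0x (show (⟨r0, hr0⟩ : Herm.fixField θ) ∈ A from e ▸ AddSubgroup.mem_top _)
  let φL : L →+ skew θ := AddMonoidHom.mk' (fun v => ⟨B ρ.y v, hsk _ hx v v.2⟩) fun a b =>
    Subtype.ext (by simp)
  have hker : Nat.card φL.ker ≤ Nat.card A := by
    have hcoef : ∀ v : φL.ker, (v.1 : V) = B ρ.f v.1 • ρ.y := fun v => by
      conv_lhs => rw [decomp2 ρ hd v.1, show B ρ.y (v.1 : V) = 0 from congrArg Subtype.val v.2]
      simp
    have hfix : ∀ v : φL.ker, θ (B ρ.f (v.1 : V)) = B ρ.f (v.1 : V) := fun v => by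
      obtain ⟨z, hz, hxz⟩ := hline ρ.y hx hx0
      have h1 := hsk z hz v.1 v.1.2
      have h2 := hsk z hz _ hx
      rw [hcoef v, map_smul, smul_eq_mul, mem_skew, map_mul, eq_neg_of_add_eq_zero_right (mem_skew.1 h2)] at h1
      have hzx : B z ρ.y ≠ 0 := fun e => hxz ((Herm.eq_zero_comm h).1 e)
      have : (B ρ.f (v.1 : V) - θ (B ρ.f (v.1 : V))) * B z ρ.y = 0 := by linear_combination h1
      exact (sub_eq_zero.1 ((mul_eq_zero.1 this).resolve_right hzx)).symm
    refine Nat.card_le_card_of_injective (fun v => (⟨⟨_, hfix v⟩, ?_⟩ : A)) fun v w e => ?_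
    · show B ρ.f (v.1 : V) • ρ.y ∈ L
      rw [← hcoef v]; exact v.1.2
    · exact Subtype.ext (Subtype.ext (by
        rw [hcoef v, hcoef w]
        exact congrArg (· • ρ.y) (congrArg (fun a : A => ((a : Herm.fixField θ) : F)) e)))
  have hL : Nat.card L ≤ Nat.card φL.range * Nat.card A := by
    rw [AddSubgroup.card_eq_card_quotient_mul_card_addSubgroup φL.ker,
      Nat.card_congr (QuotientAddGroup.quotientKerEquivRange φL).toEquiv]
    exact Nat.mul_le_mul_left _ hker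
  have hpair : Nat.card (ρ.Zp J) * Nat.card φL.range ≤ q := by
    obtain ⟨p, hp⟩ := CharP.exists F
    have : Fact p.Prime := ⟨CharP.char_is_prime F p⟩
    letI : Algebra (ZMod p) F := ZMod.algebra F p
    letI : Module (ZMod p) (skew θ) := AddCommGroup.zmodModule fun c => Subtype.ext (by
      rw [AddSubgroup.coe_nsmul, nsmul_eq_mul, CharP.cast_eq_zero, zero_mul]; rfl)
    set A' : Submodule (ZMod p) F :=
      AddSubgroup.toZModSubmodule p (A.map (Herm.fixField θ).subtype.toAddMonoidHom)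
    have hr0' : r0 ∉ A' := by
      rintro ⟨a, ha, e⟩
      exact hr0x (show r0 • ρ.y ∈ L by rw [← e]; exact ha)
    obtain ⟨φ, hφ0, hφ⟩ := Submodule.exists_dual_map_eq_bot_of_notMem hr0' inferInstance
    have hkerA : ∀ a : Herm.fixField θ, a ∈ A → φ (a : F) = 0 := fun a ha => by
      have : φ (a : F) ∈ A'.map φ := ⟨_, ⟨a, ha, rfl⟩, rfl⟩
      rwa [hφ] at this
    let β : skew θ → skew θ → ZMod p := fun c d => φ ((c : F) * d)
    have hsym : ∀ c d, β c d = β d c := fun c d => by simp only [β, mul_comm]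
    have hsl : ∀ c, (∀ d, β c d = 0) → c = 0 := fun c hc => by
      by_contra hc0
      have hc0' : (c : F) ≠ 0 := fun e => hc0 (Subtype.ext e)
      refine hφ0 ?_
      have := hc ⟨r0 / c, by
        rw [mem_skew, map_div₀, hr0, eq_neg_of_add_eq_zero_right (mem_skew.1 c.2), div_neg, add_neg_cancel]⟩
      simp only [β, mul_div_cancel₀ _ hc0'] at this
      exact this
    let U : AddSubgroup (skew θ) :=
      { carrier := {u | ∀ s ∈ φL.range, β s u = 0}
        zero_mem' := fun s _ => by simp [β]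
        add_mem' := fun {a b} ha hb s hs => by
          have h1 := ha s hs
          have h2 := hb s hs
          simp only [β] at h1 h2 ⊢
          rw [AddSubgroup.coe_add, mul_add, map_add, h1, h2, add_zero]
        neg_mem' := fun {a} ha s hs => by
          have h1 := ha s hs
          simp only [β] at h1 ⊢
          rw [AddSubgroup.coe_neg, mul_neg, map_neg, h1, neg_zero] }
    have hU := card_annih p β (fun a b c => by simp [β, add_mul]) (fun a b c => by simp [β, mul_add]) hsl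
      (fun d hd' => hsl d fun c => (hsym d c).trans (hd' c)) φL.range U fun u => Iff.rfl
    rw [← card_skew h.toIsInvol, ← hU]
    refine Nat.mul_le_mul_right _ (Nat.card_le_card_of_injective _ (AddSubgroup.inclusion_injective ?_))
    rintro c hc s ⟨v, rfl⟩
    have hcs : θ ((c : F) * B ρ.y v) = (c : F) * B ρ.y v := by
      rw [map_mul, eq_neg_of_add_eq_zero_right (mem_skew.1 c.2),
        eq_neg_of_add_eq_zero_right (mem_skew.1 (hsk _ hx v.1 v.2)), neg_mul_neg]
    have hm := L.sub_mem (hinv _ ((ρ.mem_Zp J).1 hc) v.1 v.2) v.2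
    rw [tvc_apply ρ hd, add_sub_cancel_left] at hm
    show φ ((φL v : F) * (c : F)) = 0
    rw [mul_comm]
    exact hkerA ⟨_, hcs⟩ hm
  have hJle : Nat.card J ≤ (Nat.card L - 1) * Nat.card (ρ.Zp J) := by
    refine (card_le_iso ρ hd J ((L : Set V) \ {0}) fun g hg => ⟨hinv g hg _ hx,
      fun e => ρ.y_ne (g.1.map_eq_zero_iff.1 e)⟩).trans (Nat.mul_le_mul_right _ ?_)
    rw [Set.ncard_diff_singleton_of_mem (SetLike.mem_coe.2 L.zero_mem), ← Nat.card_coe_set_eq]
    exact le_rfl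
  have h2A := two_mul_card_le hA
  have h1 : 2 * Nat.card J ≤ q ^ 2 := by
    calc 2 * Nat.card J ≤ 2 * (Nat.card L * Nat.card (ρ.Zp J)) :=
          Nat.mul_le_mul_left _ (hJle.trans (Nat.mul_le_mul_right _ (Nat.sub_le _ _)))
      _ ≤ 2 * (Nat.card φL.range * Nat.card A * Nat.card (ρ.Zp J)) :=
          Nat.mul_le_mul_left _ (Nat.mul_le_mul_right _ hL)
      _ = (2 * Nat.card A) * (Nat.card (ρ.Zp J) * Nat.card φL.range) := by ring
      _ ≤ q * q := Nat.mul_le_mul h2A hpair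
      _ = _ := (pow_two _).symm
  have h2 : q ^ 2 < 2 * (q * (q - 1)) := by
    obtain ⟨r, hr⟩ : ∃ r, q = r + 3 := ⟨q - 3, by omega⟩
    rw [hr, show r + 3 - 1 = r + 2 by omega]; nlinarith
  omega

end Cfsg.Agent.MinIndexForm.SUF
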