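import Cfsg.Agent.MinIndexForm.SUF.TwoLine
import Cfsg.Agent.MinIndexForm.SUF.Four

/-!
The least index of a proper subgroup of the four-dimensional special unitary group over four elements.
-/

set_option autoImplicit false

namespace Cfsg.Agent.MinIndexForm.SUF

open Cfsg.Agent.Classical Cfsg.Agent.MinIndexForm.SU Module

universe uF uV
variable {F : Type uF} {V : Type uV} [Field F] [AddCommGroup V] [Module F V] {θ : F →+* F}
  {B : V →ₛₗ[θ] V →ₗ[F] F} [Finite F] [FiniteDimensional F V] (hq : Nat.card (Herm.fixField θ) = 2)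
include hq

theorem no_fixed_vector (h : Herm.IsHerm B) (hd : finrank F V = 2) (J : Subgroup (Herm.suG B))
    (hJ : 3 ≤ Nat.card J) (L : AddSubgroup V) (hL : Nat.card L = 2) (hinv : ∀ g ∈ J, ∀ x ∈ L, g.1 x ∈ L) :
    False := by
  classical
  have : Finite V := Module.finite_of_finite F
  obtain ⟨u, hu, hu0⟩ : ∃ u ∈ L, u ≠ 0 := by
    by_contra hc
    push Not at hc
    rw [(AddSubgroup.eq_bot_iff_forall _).2 hc, AddSubgroup.card_bot] at hL
    omega
  have hsub : ({0, u} : Set V) ⊆ L := by rintro x (rfl | rfl); exacts [L.zero_mem, hu]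
  have hset := Set.eq_of_subset_of_ncard_le hsub (by
    rw [Set.ncard_pair (Ne.symm hu0), ← Nat.card_coe_set_eq]; exact hL.le)
  have hfix : ∀ g ∈ J, g.1 u ∈ ({u} : Set V) := fun g hg => by
    have h1 : g.1 u ∈ ({0, u} : Set V) := by rw [hset]; exact hinv g hg u hu
    rcases h1 with h1 | h1
    · exact absurd (g.1.map_eq_zero_iff.1 h1) hu0
    · exact h1
  by_cases huu : B u u = 0
  · obtain ⟨ρ, rfl⟩ := exists_frame h hu0 huu
    have h1 := card_le_iso ρ hd J _ hfix
    have h2 : Nat.card (ρ.Zp J) ≤ 2 := by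
      rw [← hq, ← card_skew h.toIsInvol]
      exact Nat.card_le_card_of_injective _ Subtype.val_injective
    rw [Set.ncard_singleton] at h1
    omega
  · have h1 := card_le_aniso h hd J huu _ hfix
    rw [Set.ncard_singleton] at h1
    omega

/-- With a full torus and a small orbit, the vector part has four elements and the Levi index is at most three. -/
theorem small_data (τ : Fr B) (hd : finrank F V = 4) (K : Subgroup (Herm.suG B)) (hZ : τ.Zp K ≠ ⊤)
    (hsmall : K.relIndex τ.P < 27) (hT : τ.T2 K = ⊤) :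
    τ.Zp K = ⊥ ∧ Nat.card (τ.Sb K) = 4 ∧ τ.I1 K ≠ ⊥ ∧ (K.relIndex τ.P < 24 → (τ.I1 K).index ≤ 2) := by
  have : Finite τ.W := Module.finite_of_finite F
  have := Fr.finite_su (B := τ.BW)
  have hθ := τ.hB.toIsInvol
  have hdW : finrank F τ.W = 2 := by have := τ.finrank_W; omega
  have hZb := Zp_eq_bot hθ hq hZ
  have hw := τ.Sb_index_ge K hdW hZ
  have hsw := (τ.Sb K).card_mul_index
  rw [τ.card_W hdW, hq, show 2 ^ (2 * 2) = 16 from rfl] at hsw
  rw [hq] at hw
  norm_num at hw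
  rw [τ.relIndex_P K (by omega), hT, Subgroup.index_top, one_mul, hZb, AddSubgroup.index_bot,
    card_skew hθ, hq] at hsmall ⊢
  have hJi := (τ.I1 K).card_mul_index
  rw [card_su τ.hB_W hdW, hq, show 2 * (2 ^ 2 - 1) = 6 from rfl] at hJi
  have hi : 1 ≤ (τ.I1 K).index := τ.I1_pos K
  have hiw : (τ.I1 K).index * (τ.Sb K).index ≤ 13 := by
    have : (τ.I1 K).index * ((τ.Sb K).index * 2) = (τ.I1 K).index * (τ.Sb K).index * 2 := by ring
    omega
  have hwle : (τ.Sb K).index ≤ 13 := le_trans (Nat.le_mul_of_pos_left _ hi) hiw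
  have hw4 : (τ.Sb K).index = 4 := by
    have hdvd : (τ.Sb K).index ∣ 16 := ⟨_, by rw [mul_comm]; exact hsw.symm⟩
    by_contra hne
    have h8 : (τ.Sb K).index = 8 := by
      generalize (τ.Sb K).index = w at hdvd hw hwle hne
      interval_cases w <;> omega
    rw [h8] at hsw hiw
    have hi1 : (τ.I1 K).index = 1 := by omega
    rw [hi1] at hJi
    exact no_fixed_vector hq τ.hB_W hdW _ (by omega) (τ.Sb K) (by omega) fun g hg x hx => τ.Sb_inv_I1 K hg hx
  rw [hw4] at hsw hiw hsmall ⊢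
  refine ⟨rfl, by omega, fun hJ => ?_, fun h24 => by omega⟩
  rw [hJ, Subgroup.card_bot] at hJi
  rw [hJ] at hiw
  omega

/-- A moved point has an orbit of at least twenty-four cosets. -/
theorem moved_two (τ : Fr B) (hd : finrank F V = 4) (K : Subgroup (Herm.suG B)) (hZ : τ.Zp K ≠ ⊤) :
    24 ≤ K.relIndex τ.P := by
  by_contra hlt
  push Not at hlt
  have hθ := τ.hB.toIsInvol
  have := Fr.finite_su (B := τ.BW)
  have hdW : finrank F τ.W = 2 := by have := τ.finrank_W; omega
  rcases T2_cases hθ hq (τ.T2 K) with hT | hT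
  swap
  · have hw := τ.Sb_index_ge K hdW hZ
    rw [hq] at hw
    norm_num at hw
    rw [τ.relIndex_P K (by omega), hT, Zp_eq_bot hθ hq hZ, AddSubgroup.index_bot, card_skew hθ, hq] at hlt
    have : 4 * 2 ≤ (τ.I1 K).index * ((τ.Sb K).index * 2) :=
      le_trans (Nat.mul_le_mul_right _ hw) (Nat.le_mul_of_pos_left _ (τ.I1_pos K))
    omega
  obtain ⟨hZb, hL, hJ, hi⟩ := small_data hq τ hd K hZ (by omega) hT
  obtain ⟨b, hb⟩ := Herm.exists_moved hθ
  have hb0 : b ≠ 0 := fun e => hb (by rw [e, map_zero])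
  have hb1 : (Units.mk0 b hb0) ≠ 1 := fun e => hb (by
    have e' : b = 1 := congrArg Units.val e
    rw [e', map_one])
  obtain ⟨h, hK, hy⟩ := (τ.mem_T2 K).1 (show Units.mk0 b hb0 ∈ τ.T2 K by rw [hT]; exact Subgroup.mem_top _)
  obtain ⟨ρ, -, hI, -⟩ := two_line hq τ hdW hZb hL hJ hb1 hK hy
  have hJi := (τ.I1 K).card_mul_index
  rw [card_su τ.hB_W hdW, hI, card_P ρ hdW, hq] at hJi
  have := hi hlt
  rw [hI] at this
  omega

theorem skew_eq_bot_or (τ : Fr B) {K : Subgroup (Herm.suG B)} : τ.Zp K = ⊤ ∨ τ.Zp K = ⊥ :=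
  (em (τ.Zp K = ⊤)).imp_right (Zp_eq_bot τ.hB.toIsInvol hq)

/-- An element fixing two opposite points, when it lies in the subgroup, gives a non-trivial central part. -/
theorem diag_root (τ : Fr B) (hd : finrank F V = 4) {K : Subgroup (Herm.suG B)} (hZ : τ.Zp K = ⊥)
    (hsmall : K.relIndex τ.P < 27) {a : F} (ha0 : a ≠ 0) (ha1 : a ≠ 1) {h : Herm.suG B} (hK : h ∈ K)
    (hy : h.1 τ.y = a • τ.y) (hf : h.1 τ.f = a • τ.f) : ∃ σ : Fr B, σ.Zp K ≠ ⊥ := by
  have hθ := τ.hB.toIsInvol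
  have hdW : finrank F τ.W = 2 := by have := τ.finrank_W; omega
  have h2 := two_zero hθ hq
  have haθ : a * θ a = 1 := by
    rw [theta_sq hθ hq]
    linear_combination cube hθ hq ha0
  have hua : (Units.mk0 a ha0) ≠ 1 := fun e => ha1 (congrArg Units.val e)
  have hT : τ.T2 K = ⊤ := T2_top hθ hq (a := Units.mk0 a ha0) ((τ.mem_T2 K).2 ⟨h, hK, hy⟩) hua
  have hne : τ.Zp K ≠ ⊤ := fun e => by
    rw [hZ] at e
    have := congrArg (fun S : AddSubgroup (skew θ) => Nat.card S) e
    simp only [AddSubgroup.card_bot, AddSubgroup.card_top, card_skew hθ, hq] at this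
    omega
  obtain ⟨hZb, hL, hJ, -⟩ := small_data hq τ hd K hne hsmall hT
  obtain ⟨ρ, hS, hI, hact⟩ := two_line hq τ hdW hZb hL hJ hua hK hy
  -- conjugation by the element has no central shift
  have hW : ∀ u : τ.W, h.1 (u : V) = (τ.pr (h.1 (u : V)) : V) := fun u => by
    have e1 := h.2.1 τ.y (u : V)
    have e2 := h.2.1 τ.f (u : V)
    rw [hy, τ.By, map_smulₛₗ, LinearMap.smul_apply, smul_eq_mul] at e1
    rw [hf, τ.Bf, map_smulₛₗ, LinearMap.smul_apply, smul_eq_mul] at e2
    have hθa : θ a ≠ 0 := (map_ne_zero θ).2 ha0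
    conv_lhs => rw [τ.decomp (h.1 (u : V)), (mul_eq_zero.1 e1).resolve_left hθa,
      (mul_eq_zero.1 e2).resolve_left hθa, zero_smul, zero_smul, add_zero, add_zero]
  have hyX : ∀ X, B τ.y (h.1 X) = a * B τ.y X := fun X => by
    have e1 := h.2.1 τ.y X
    rw [hy, map_smulₛₗ, LinearMap.smul_apply, smul_eq_mul] at e1
    linear_combination a * e1 - B τ.y (h.1 X) * haθ
  have hnz : ∀ β : F, (0 : F) + θ 0 = -B ((β • ρ.y : τ.W) : V) ((β • ρ.y : τ.W) : V) := iso_cond τ ρ
  have hex : ∀ β : F, ∃ c, ∃ hc : c + θ c = -B ((β • ρ.y : τ.W) : V) ((β • ρ.y : τ.W) : V),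
      τ.sh (β • ρ.y) c hc ∈ K := fun β => (hS _).2 (by rw [map_smul, ρ.hyy, smul_zero])
  choose cf hcf hcm using hex
  have huniq : ∀ (β c : F) (hc : c + θ c = -B ((β • ρ.y : τ.W) : V) ((β • ρ.y : τ.W) : V)),
      τ.sh (β • ρ.y) c hc ∈ K → c = cf β := fun β c hc hm => by
    have hsk : c - cf β ∈ skew θ := by
      rw [mem_skew, map_sub]; linear_combination hc - hcf β
    have := diff_mem τ hm (hcm β) hsk
    rw [hZ, AddSubgroup.mem_bot] at this
    exact sub_eq_zero.1 (congrArg Subtype.val this)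
  have hcfa : ∀ β, cf (a * β) = cf β := fun β => by
    refine (huniq (a * β) (cf β) ((hcf β).trans (by rw [← hnz, ← hnz])) ?_).symm
    have hm := K.mul_mem (K.mul_mem hK (hcm β)) (K.inv_mem hK)
    convert hm using 1
    rw [eq_mul_inv_iff_mul_eq]
    refine Subtype.ext (LinearEquiv.ext fun X => ?_)
    have hu : (((a * β) • ρ.y : τ.W) : V) = θ a • h.1 ((β • ρ.y : τ.W) : V) := by
      have := hact β
      rw [Units.val_mk0] at this
      rw [← this, Submodule.coe_smul, ← hW]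
    have huX : B (h.1 ((β • ρ.y : τ.W) : V)) (h.1 X) = B ((β • ρ.y : τ.W) : V) X := h.2.1 _ _
    simp only [Subgroup.coe_mul, LinearEquiv.mul_apply, τ.sh_coe]
    rw [hu, hyX, map_smulₛₗ, LinearMap.smul_apply, smul_eq_mul, huX, hθ.invol, map_add, map_add, map_smul,
      map_smul, hy, smul_smul, smul_smul]
    match_scalars
    all_goals try ring
    all_goals linear_combination (B τ.y X) * haθ
  have hadd : ∀ β β', cf (β + β') = cf β + cf β' := fun β β' => by
    have h1 := hcf β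
    have h2' := hcf β'
    rw [← hnz, map_zero, add_zero] at h1 h2'
    refine (huniq _ _ ?_ ?_).symm
    · rw [← hnz, map_add, map_zero, add_zero]
      linear_combination h1 + h2'
    · have hm := K.mul_mem (hcm β) (hcm β')
      rw [τ.sh_mul] at hm
      convert hm using 1
      have hyy : B (ρ.y : V) (ρ.y : V) = 0 := by rw [← τ.BW_apply]; exact ρ.hyy
      exact τ.sh_congr (add_smul _ _ _) (by simp [hyy])
  have ha1' : a - 1 ≠ 0 := sub_ne_zero.2 ha1
  have hcz : ∀ β, cf β = 0 := fun β => by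
    have e := hadd ((a - 1) * (β / (a - 1))) (β / (a - 1))
    rw [show (a - 1) * (β / (a - 1)) + β / (a - 1) = a * (β / (a - 1)) by ring, hcfa,
      mul_div_cancel₀ _ ha1'] at e
    linear_combination -e
  exact borel_core τ hdW hZ ρ (fun β => (congrArg (· ∈ K) (τ.sh_congr rfl (hcz β))).mp (hcm β))
    (one_skew hθ hq) one_ne_zero (by rw [hI]; exact ⟨1, by rw [Units.val_one, one_smul]; exact ρ.sh_y _ _ _⟩)

end Cfsg.Agent.MinIndexForm.SUF
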