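import Cfsg.Agent.MinIndexForm.SUF.Two

/-!
The bound twenty-seven over four elements.
-/

set_option autoImplicit false

namespace Cfsg.Agent.MinIndexForm.SUF

open Cfsg.Agent.Classical Cfsg.Agent.MinIndexForm.SU Module

/-- Three free exponents of a diagonal element. -/
abbrev Tor := ZMod 3 × ZMod 3 × ZMod 3

/-- The four exponents. -/
def expo (v : Tor) : Fin 4 → ZMod 3 := ![v.1, v.2.1, v.2.2, -(v.1 + v.2.1 + v.2.2)]

/-- Two equal non-zero exponents. -/
def Good (v : Tor) : Prop := ∃ i j, i ≠ j ∧ expo v i = expo v j ∧ expo v i ≠ 0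

instance (v : Tor) : Decidable (Good v) := by unfold Good; infer_instance

set_option synthInstance.maxSize 2000 in
set_option maxRecDepth 100000 in
set_option maxHeartbeats 4000000 in
theorem good_span : ∀ s t : Tor, s ≠ 0 → ¬Good s → ¬Good t → ¬Good (s + t) → ¬Good (s - t) →
    t = 0 ∨ t = s ∨ t = -s := by decide +kernel

universe uF uV
variable {F : Type uF} {V : Type uV} [Field F] [AddCommGroup V] [Module F V] {θ : F →+* F}
  {B : V →ₛₗ[θ] V →ₗ[F] F} [Finite F] [FiniteDimensional F V]

theorem conjS_mul (g g' : Herm.suG B) (H : Subgroup (Herm.suG B)) : conjS g (conjS g' H) = conjS (g * g') H := by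
  ext x
  rw [mem_conjS, mem_conjS, mem_conjS, mul_inv_rev]
  simp [mul_assoc]

theorem no_root_conjS (h : Herm.IsHerm B) (hn : 3 ≤ finrank F V) {H : Subgroup (Herm.suG B)}
    (hH : ∀ π : Fr B, π.Zp H = ⊥) (g : Herm.suG B) (π : Fr B) : π.Zp (conjS g H) = ⊥ := by
  obtain ⟨σ, hσ⟩ := exists_frame h (v := (g⁻¹).1 π.y) (fun e => π.y_ne ((g⁻¹).1.map_eq_zero_iff.1 e))
    (by rw [(g⁻¹).2.1]; exact π.hyy)
  rw [Zp_conjS σ π (by rw [hσ, ← LinearEquiv.mul_apply, ← Subgroup.coe_mul, mul_inv_cancel]; rfl)]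
  exact hH σ

variable (hq : Nat.card (Herm.fixField θ) = 2)
include hq

/-- Some conjugate contains a diagonal element with a repeated non-trivial eigenvalue. -/
theorem exists_diag_elem (h : Herm.IsHerm B) (hd : finrank F V = 4) (H : Subgroup (Herm.suG B))
    (hlt : H.index < 27) (h9 : ¬9 ∣ H.index) :
    ∃ (g : Herm.suG B) (τ : Fr B) (a : F) (d : Herm.suG B), a ≠ 0 ∧ a ≠ 1 ∧ d ∈ conjS g H ∧
      d.1 τ.y = a • τ.y ∧ d.1 τ.f = a • τ.f := by
  classical
  have hθ := h.toIsInvol
  have h2 := two_zero hθ hq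
  have := Fr.finite_su (B := B)
  obtain ⟨b0, hb0⟩ := Herm.exists_moved hθ
  obtain ⟨ω, hω0, hω1⟩ : ∃ ω : F, ω ≠ 0 ∧ ω ≠ 1 :=
    ⟨b0, fun e => hb0 (by rw [e, map_zero]), fun e => hb0 (by rw [e, map_one])⟩
  have h3 : ω ^ 3 = 1 := by linear_combination cube hθ hq hω0
  obtain ⟨bb, hbb⟩ := Herm.exists_orthonormal h
  let b := bb.reindex (finCongr hd)
  have hb : ∀ i j, B (b i) (b j) = if i = j then 1 else 0 := fun i j => by
    simp [b, hbb _ _]
  let δ : Tor → Fin 4 → F := fun v i => ω ^ (expo v i).val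
  have hδ0 : ∀ v i, δ v i ≠ 0 := fun v i => pow_ne_zero _ hω0
  have hδn : ∀ v i, δ v i * θ (δ v i) = 1 := fun v i => by
    rw [theta_sq hθ hq]; linear_combination cube hθ hq (hδ0 v i)
  have hadd : ∀ x y : ZMod 3, ω ^ (x + y).val = ω ^ x.val * ω ^ y.val := fun x y => by
    rw [ZMod.val_add, ← pow_add, ← pow_mod_orderOf ω (x.val + y.val)]
    have : orderOf ω = 3 := orderOf_eq_prime (hp := ⟨Nat.prime_three⟩) h3 hω1
    rw [this]
  have hex : ∀ v : Tor, ∃ g : Herm.suG B, ∀ i, g.1 (b i) = δ v i • b i := fun v => by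
    let b' := b.unitsSMul fun i => Units.mk0 (δ v i) (hδ0 v i)
    have hb' : ∀ i, b' i = δ v i • b i := fun i => by simp [b', Basis.unitsSMul_apply, Units.smul_def]
    let g := b.equiv b' (Equiv.refl _)
    have hg : ∀ i, g (b i) = δ v i • b i := fun i => by simp [g, hb']
    refine ⟨⟨g, Herm.isometry_of_basis b b' (fun i j => ?_), Units.ext ?_⟩, hg⟩
    · rw [hb', hb', map_smul, map_smulₛₗ, LinearMap.smul_apply, smul_eq_mul, smul_eq_mul, hb]
      by_cases hij : i = j
      · subst hij
        rw [if_pos rfl, mul_one]; exact (hδn v i).symm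
      · rw [if_neg hij, mul_zero, mul_zero]
    · rw [Herm.det_unit_norm h g (a := b) (fun i j => hb i j) hd.symm (δ v) hg, Units.val_one, Fin.prod_univ_four]
      show ω ^ (expo v 0).val * ω ^ (expo v 1).val * ω ^ (expo v 2).val * ω ^ (expo v 3).val = 1
      rw [← hadd, ← hadd, ← hadd, show expo v 0 + expo v 1 + expo v 2 + expo v 3 = 0 from add_neg_cancel _,
        ZMod.val_zero, pow_zero]
  choose ψ hψ using hex
  have hhom : ∀ v w, ψ (v + w) = ψ v * ψ w := fun v w => by
    refine Subtype.ext (b.ext' fun i => ?_)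
    rw [hψ, Subgroup.coe_mul, LinearEquiv.mul_apply, hψ, map_smul, hψ, smul_smul]
    congr 1
    have he : expo (v + w) i = expo v i + expo w i := by
      fin_cases i <;> simp [expo]
      ring
    show ω ^ (expo (v + w) i).val = ω ^ (expo w i).val * ω ^ (expo v i).val
    rw [he, hadd, mul_comm]
  let φ : Multiplicative Tor →* Herm.suG B :=
    MonoidHom.mk' (fun v => ψ v.toAdd) fun v w => hhom _ _
  letI : MulAction (Multiplicative Tor) (Herm.suG B ⧸ H) := MulAction.compHom _ φ
  by_contra hno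
  push Not at hno
  have hgood : ∀ (x : Herm.suG B ⧸ H), ∀ v ∈ MulAction.stabilizer (Multiplicative Tor) x, ¬Good v.toAdd := by
    intro x v hv
    induction x using QuotientGroup.induction_on with
    | _ g =>
      rintro ⟨i, j, hij, heq, hne⟩
      have hg : ψ v.toAdd ∈ conjS g H := by
        have e : ((ψ v.toAdd * g : Herm.suG B) : Herm.suG B ⧸ H) = g := hv
        rw [eq_comm, QuotientGroup.eq, ← mul_assoc] at e
        rw [mem_conjS]; exact e
      obtain ⟨β, hβ⟩ := Herm.exists_trace hθ (a := (1 : F)) (map_one θ)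
      let τ : Fr B := ⟨h, b i + b j, β • b i + θ β • b j,
        by simp [hb, hij, Ne.symm hij]; linear_combination h2,
        by simp [hb, hij, Ne.symm hij, hθ.invol]; linear_combination (β * θ β) * h2,
        by simp [hb, hij, Ne.symm hij, hβ]⟩
      have hji : δ v.toAdd j = δ v.toAdd i := by simp only [δ, heq]
      refine hno g τ (δ v.toAdd i) (ψ v.toAdd) (hδ0 _ _) (fun e => hne ?_) hg ?_ ?_
      · have h1 : (expo v.toAdd i).val < 3 := ZMod.val_lt _
        rw [← ZMod.val_eq_zero]
        by_contra h0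
        refine hω1 ?_
        simp only [δ] at e
        have : orderOf ω = 3 := orderOf_eq_prime (hp := ⟨Nat.prime_three⟩) h3 hω1
        have h4 := orderOf_le_of_pow_eq_one (Nat.pos_of_ne_zero h0) e
        omega
      · show (ψ v.toAdd).1 (b i + b j) = _ • (b i + b j)
        rw [map_add, hψ, hψ, hji, smul_add]
      · show (ψ v.toAdd).1 (β • b i + θ β • b j) = _ • (β • b i + θ β • b j)
        rw [map_add, map_smul, map_smul, hψ, hψ, hji, smul_add, smul_comm β, smul_comm (θ β)]
  have horb : ∀ x : Herm.suG B ⧸ H, Nat.card (MulAction.orbit (Multiplicative Tor) x) = 9 := fun x => by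
    set S := MulAction.stabilizer (Multiplicative Tor) x with hS
    have h1 : S.index = Nat.card (MulAction.orbit (Multiplicative Tor) x) := by
      rw [hS, MulAction.index_stabilizer, Nat.card_coe_set_eq]
    have h2' : Nat.card S * S.index = 27 := by
      rw [S.card_mul_index, Nat.card_congr Multiplicative.toAdd]
      simp [Nat.card_eq_fintype_card]
    have h4 : S.index ≤ H.index := by
      rw [h1]; exact Nat.card_le_card_of_injective _ Subtype.val_injective
    have h5 : Nat.card S ≤ 3 := by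
      by_cases hbot : ∀ s ∈ S, s = 1
      · rw [(Subgroup.eq_bot_iff_forall S).2 hbot, Subgroup.card_bot]; norm_num
      push Not at hbot
      obtain ⟨s, hs, hs1⟩ := hbot
      have hsub : ∀ t ∈ S, t = 1 ∨ t = s ∨ t = s⁻¹ := fun t ht => by
        have := good_span s.toAdd t.toAdd (fun e => hs1 (Multiplicative.toAdd.injective (by simpa using e)))
          (hgood x s hs) (hgood x t ht) (hgood x _ (S.mul_mem hs ht)) (by
            have := hgood x _ (S.mul_mem hs (S.inv_mem ht))
            rwa [toAdd_mul, toAdd_inv, ← sub_eq_add_neg] at this)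
        rcases this with e | e | e
        · exact Or.inl (Multiplicative.toAdd.injective (by simpa using e))
        · exact Or.inr (Or.inl (Multiplicative.toAdd.injective e))
        · exact Or.inr (Or.inr (Multiplicative.toAdd.injective (by simpa using e)))
      have hss : (S : Set (Multiplicative Tor)) ⊆ {1, s, s⁻¹} := fun t ht => by
        rcases hsub t ht with rfl | rfl | rfl <;> simp
      calc Nat.card S = (S : Set (Multiplicative Tor)).ncard := Nat.card_coe_set_eq _
        _ ≤ ({1, s, s⁻¹} : Set (Multiplicative Tor)).ncard := Set.ncard_le_ncard hss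
        _ ≤ 3 := by
          refine (Set.ncard_insert_le _ _).trans (Nat.add_le_add_right ((Set.ncard_insert_le _ _).trans ?_) 1)
          rw [Set.ncard_singleton]
    rw [← h1]
    generalize S.index = o at h2' h4
    generalize Nat.card S = s at h2' h5
    interval_cases s <;> omega
  refine h9 ?_
  have : Fintype (Herm.suG B ⧸ H) := Fintype.ofFinite _
  rw [Subgroup.index, Nat.card_congr (MulAction.selfEquivSigmaOrbits (Multiplicative Tor) (Herm.suG B ⧸ H)),
    Nat.card_sigma]
  refine Finset.dvd_sum fun ω' _ => ?_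
  rw [horb]

/-- The bound over four elements. -/
theorem bound_two (h : Herm.IsHerm B) (hd : finrank F V = 4) (H : Subgroup (Herm.suG B)) (hH : H ≠ ⊤) :
    27 ≤ H.index := by
  classical
  have := Fr.finite_su (B := B)
  have hθ := h.toIsInvol
  by_contra hlt
  push Not at hlt
  obtain ⟨v, hv0, hvv, hv⟩ : ∃ v : V, v ≠ 0 ∧ B v v = 0 ∧ ¬HasRoot H v := by
    by_contra hc
    push Not at hc
    exact hH (eq_top_of_roots h (by omega) (.inr (by omega)) hc)
  obtain ⟨τ, rfl⟩ := exists_frame h hv0 hvv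
  rw [τ.hasRoot_iff] at hv
  have hτZ := Zp_eq_bot hθ hq hv
  have h24 := moved_two hq τ hd H hv
  have htwenty : 24 ≤ H.index := h24.trans (τ.relIndex_le_index H)
  have hbot : (⊥ : AddSubgroup (skew θ)) ≠ ⊤ := fun e => by
    have := congrArg (fun S : AddSubgroup (skew θ) => Nat.card S) e
    simp only [AddSubgroup.card_bot, AddSubgroup.card_top, card_skew hθ, hq] at this
    omega
  by_cases hroot : ∀ π : Fr B, π.Zp H = ⊥
  · obtain ⟨g, σ, a, d, ha0, ha1, hd', hy, hf⟩ := exists_diag_elem hq h hd H hlt (by omega)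
    have hK := no_root_conjS h (by omega) hroot g
    obtain ⟨π, hπ⟩ := diag_root hq σ hd (hK σ)
      (((σ.relIndex_le_index _).trans (index_conjS g H).le).trans_lt hlt) ha0 ha1 hd' hy hf
    exact hπ (hK π)
  push Not at hroot
  obtain ⟨σ, hσ⟩ := hroot
  have hfix : σ.Zp H = ⊤ := (skew_eq_bot_or hq σ).resolve_right hσ
  have hr : HasRoot H σ.y := σ.hasRoot_iff.2 hfix
  by_cases horth : ∀ a b, B a a = 0 → B b b = 0 → HasRoot H a → HasRoot H b → B a b = 0
  · have := orth_ge h hd horth σ hr
    rw [hq] at this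
    norm_num at this
    omega
  push Not at horth
  obtain ⟨a, b, haa, hbb, ha, hb, hab⟩ := horth
  obtain ⟨π, hπ, hπS⟩ := exists_fixed_frame h (by omega) (by omega) hH haa hbb hab ha hb
  have h3 := fixed_ge π hd hπS
  rw [hq] at h3
  obtain ⟨g, hg⟩ := trans_iso h (by omega) π.y_ne π.hyy τ.y_ne τ.hyy
  have h5 := two_orbits τ hτZ (g := g) (by
    rw [Zp_conjS π τ hg, π.hasRoot_iff.1 hπ]; exact hbot.symm)
  rw [relIndex_conjS π τ hg] at h5
  omega

end Cfsg.Agent.MinIndexForm.SUF
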