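import Cfsg.Agent.MinIndexForm.SUF.Plane
import Cfsg.Agent.MinIndexForm.SU.Base
import Cfsg.Agent.MinIndexForm.SUF.Shape

/-!
The field with four elements as a quadratic extension.
-/

set_option autoImplicit false

namespace Cfsg.Agent.MinIndexForm.SUF

open Cfsg.Agent.Classical Cfsg.Agent.MinIndexForm.SU Module

universe uF
variable {F : Type uF} [Field F] [Finite F] {θ : F →+* F} (hθ : Herm.IsInvol θ)
  (hq : Nat.card (Herm.fixField θ) = 2)
include hθ hq

theorem card_field : Nat.card F = 4 := by rw [Herm.card_eq_fix_sq hθ, hq]; rfl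

theorem two_zero : (2 : F) = 0 := by
  have : Fintype F := Fintype.ofFinite F
  have h := FiniteField.cast_card_eq_zero F
  rw [← Nat.card_eq_fintype_card, card_field hθ hq, Nat.cast_ofNat, show (4 : F) = 2 * 2 by norm_num] at h
  exact mul_self_eq_zero.1 h

omit hθ in
theorem fix_cases {x : F} (hx : θ x = x) : x = 0 ∨ x = 1 := by
  classical
  by_contra hc
  push Not at hc
  have : Fintype (Herm.fixField θ) := Fintype.ofFinite _
  have h := Finset.card_le_card (Finset.subset_univ ({0, 1, ⟨x, hx⟩} : Finset (Herm.fixField θ)))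
  rw [Finset.card_univ, ← Nat.card_eq_fintype_card, hq, Finset.card_insert_of_notMem, Finset.card_pair] at h
  · omega
  · intro e; exact hc.2 (congrArg Subtype.val e).symm
  · simp only [Finset.mem_insert, Finset.mem_singleton, not_or]
    exact ⟨zero_ne_one, fun e => hc.1 (congrArg Subtype.val e).symm⟩

theorem cube {x : F} (hx : x ≠ 0) : x * x * x = 1 := by
  have : Fintype F := Fintype.ofFinite F
  have h := FiniteField.pow_card_sub_one_eq_one x hx
  rw [← Nat.card_eq_fintype_card, card_field hθ hq] at h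
  linear_combination h

theorem theta_sq (x : F) : θ x = x * x := by rw [theta_eq_pow hθ, hq, pow_two]

theorem mem_skew_two {c : F} : c ∈ skew θ ↔ θ c = c := by
  have h2 := two_zero hθ hq
  rw [mem_skew]
  constructor <;> intro h
  · linear_combination h - c * h2
  · linear_combination h + c * h2

theorem one_skew : (1 : F) ∈ skew θ := (mem_skew_two hθ hq).2 (map_one θ)

theorem Zp_eq_bot {S : AddSubgroup (skew θ)} (hS : S ≠ ⊤) : S = ⊥ := by
  refine AddSubgroup.card_eq_one.1 ?_
  have h0 : 0 < Nat.card S := Nat.card_pos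
  have h1 := S.card_mul_index
  rw [card_skew hθ, hq] at h1
  have h2 : S.index ≠ 1 := fun e => hS (AddSubgroup.index_eq_one.1 e)
  rcases (Nat.dvd_prime Nat.prime_two).1 ⟨_, h1.symm⟩ with h | h
  · exact h
  · rw [h] at h1; omega

theorem T2_top {T : Subgroup Fˣ} {a : Fˣ} (ha : a ∈ T) (ha1 : a ≠ 1) : T = ⊤ := by
  refine Subgroup.eq_top_of_card_eq _ ?_
  rw [Nat.card_units, card_field hθ hq]
  have h := T.card_mul_index
  rw [Nat.card_units, card_field hθ hq] at h
  rcases (Nat.dvd_prime Nat.prime_three).1 ⟨_, h.symm⟩ with h' | h'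
  · exact absurd (Subgroup.eq_bot_of_card_eq T h') fun e => ha1 (by rwa [e, Subgroup.mem_bot] at ha)
  · exact h'

theorem T2_cases (T : Subgroup Fˣ) : T = ⊤ ∨ T.index = 3 := by
  by_cases h : ∃ a ∈ T, a ≠ 1
  · obtain ⟨a, ha, ha1⟩ := h
    exact Or.inl (T2_top hθ hq ha ha1)
  push Not at h
  refine Or.inr ?_
  rw [(Subgroup.eq_bot_iff_forall T).2 h, Subgroup.index_bot, Nat.card_units, card_field hθ hq]

end Cfsg.Agent.MinIndexForm.SUF
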