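import Cfsg.Agent.MinIndexForm.SUF.TwoField
import Cfsg.Agent.MinIndexForm.SUF.Moved

/-!
The vector part at a moved point over the field with four elements, when the torus image is full.
-/

set_option autoImplicit false

namespace Cfsg.Agent.MinIndexForm.SUF

open Cfsg.Agent.Classical Cfsg.Agent.MinIndexForm.SU Module

universe uF uV
variable {F : Type uF} {V : Type uV} [Field F] [AddCommGroup V] [Module F V] {θ : F →+* F}
  {B : V →ₛₗ[θ] V →ₗ[F] F} [Finite F] [FiniteDimensional F V] (hq : Nat.card (Herm.fixField θ) = 2)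
include hq

theorem no_twist (ρ : Fr B) (hd : finrank F V = 2) {k : Herm.suG B} {a : F} (ha0 : a ≠ 0) (ha1 : a ≠ 1)
    (hk : k.1 ρ.y = (a * a) • ρ.y) : False := by
  have hθ := ρ.hB.toIsInvol
  have e := aval_fix ρ hd hk
  have h3 := cube hθ hq ha0
  rw [theta_sq hθ hq] at e
  have e' : a * (a - 1) = 0 := by linear_combination a * h3 - e
  exact ha1 (sub_eq_zero.1 ((mul_eq_zero.1 e').resolve_left ha0))

omit hq in
/-- A four-element subgroup is generated by any two of its non-zero elements. -/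
theorem mem_four {G : Type*} [AddCommGroup G] [Finite G] {L : AddSubgroup G} (hL : Nat.card L = 4) {u v : G} (hu : u ∈ L) (hv : v ∈ L) (hu0 : u ≠ 0)
    (hv0 : v ≠ 0) (huv : u ≠ v) (hs : u + v ≠ 0) {w : G} (hw : w ∈ L) :
    w = 0 ∨ w = u ∨ w = v ∨ w = u + v := by
  classical
  have hsub : ({0, u, v, u + v} : Set G) ⊆ L := by
    rintro x (rfl | rfl | rfl | rfl)
    exacts [L.zero_mem, hu, hv, L.add_mem hu hv]
  have hc : ({0, u, v, u + v} : Set G).ncard = 4 := by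
    have n1 : u ≠ u + v := fun e => hv0 (add_eq_left.1 e.symm)
    have n2 : v ≠ u + v := fun e => hu0 (add_eq_right.1 e.symm)
    rw [Set.ncard_insert_of_notMem, Set.ncard_insert_of_notMem, Set.ncard_pair n2]
    · simp [huv, n1]
    · simp [hu0.symm, hv0.symm, hs.symm]
  have he := Set.eq_of_subset_of_ncard_le hsub (by
    rw [hc, ← Nat.card_coe_set_eq]; exact hL.le)
  have hw' : w ∈ ({0, u, v, u + v} : Set G) := by rw [he]; exact hw
  exact hw'

/-- A full torus and a four-element vector part with a non-trivial Levi image give a line. -/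
theorem two_line (τ : Fr B) (hd : finrank F τ.W = 2) {K : Subgroup (Herm.suG B)} (hZ : τ.Zp K = ⊥)
    (hL : Nat.card (τ.Sb K) = 4) (hJ : τ.I1 K ≠ ⊥) {a : Fˣ} (ha1 : a ≠ 1) {h : Herm.suG B} (hK : h ∈ K)
    (hy : h.1 τ.y = (a : F) • τ.y) :
    ∃ ρ : Fr τ.BW, (∀ v, v ∈ τ.Sb K ↔ τ.BW ρ.y v = 0) ∧ τ.I1 K = ρ.P ∧
      ∀ β : F, θ (a : F) • τ.pr (h.1 ((β • ρ.y : τ.W) : V)) = ((a : F) * β) • ρ.y := by
  classical
  have hθ := τ.hB.toIsInvol
  have : Finite τ.W := Module.finite_of_finite F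
  have := Fr.finite_su (B := τ.BW)
  have h2 := two_zero hθ hq
  set A : F := (a : F) with hA
  have hA0 : A ≠ 0 := a.ne_zero
  have hA1 : A ≠ 1 := fun e => ha1 (Units.ext e)
  have h3 := cube hθ hq hA0
  have hθA : θ A = A * A := theta_sq hθ hq A
  obtain ⟨e, he0, hee⟩ := Herm.exists_isotropic τ.hB_W (by omega)
  obtain ⟨ρ0, -⟩ := exists_frame τ.hB_W he0 hee
  set l0 := ρ0.ext a⁻¹ (1 : ρ0.W ≃ₗ[F] ρ0.W) with hl0
  have hl0s : ∀ z, l0 z = (A * A) • z := fun z => by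
    rw [hl0, ρ0.ext_apply, W_zero ρ0 hd (ρ0.pr z)]
    conv_rhs => rw [decomp2 ρ0 hd z]
    have hinv : ((a⁻¹ : Fˣ) : F) = A * A := by
      rw [Units.val_inv_eq_inv_val, ← hA]
      exact inv_eq_of_mul_eq_one_right (by linear_combination h3)
    have hinv' : (θ ((a⁻¹ : Fˣ) : F))⁻¹ = A * A := by
      rw [Units.val_inv_eq_inv_val, map_inv₀, inv_inv, hθA]
    rw [hinv', hinv]
    simp [smul_smul]
  have hm0 : τ.ext a l0 ∈ Herm.suG B :=
    ⟨τ.ext_isometry a (ρ0.ext_isometry _ fun u v => rfl), Units.ext (by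
      rw [τ.det_ext, hl0, ρ0.det_ext, map_one, Units.val_one, mul_one, Units.val_inv_eq_inv_val, map_inv₀, inv_inv]
      have : θ (a : F) ≠ 0 := (map_ne_zero θ).2 a.ne_zero
      field_simp)⟩
  set g0 : Herm.suG B := ⟨_, hm0⟩ with hg0
  have hg1 : (g0⁻¹ * h).1 τ.y = τ.y := by
    have e : g0.1 τ.y = A • τ.y := τ.ext_y _ _
    rw [Subgroup.coe_mul, LinearEquiv.mul_apply, hy, ← e]
    exact Herm.inv_apply_self' g0.1 τ.y
  set k := τ.lam ⟨_, hg1⟩ with hk
  have hpr : ∀ u : τ.W, θ A • τ.pr (h.1 (u : V)) = A • k.1 u := fun u => by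
    have e : ∀ z, τ.pr (g0.1 z) = (A * A) • τ.pr z := fun z => by
      have e0 : g0.1 z = ((l0 (τ.pr z) : τ.W) : V) + (A * B τ.f z) • τ.y + ((θ A)⁻¹ * B τ.y z) • τ.f := rfl
      rw [e0, map_add, map_add, map_smul, map_smul, τ.pr_W, τ.pr_y, τ.pr_f, smul_zero, smul_zero, add_zero,
        add_zero, hl0s]
    have e1 : h.1 (u : V) = g0.1 ((g0⁻¹ * h).1 (u : V)) := by
      rw [← LinearEquiv.mul_apply, ← Subgroup.coe_mul, mul_inv_cancel_left]
    rw [e1, e, smul_smul, hθA, hk, τ.lam_apply]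
    congr 1
    linear_combination A * h3
  set J := τ.I1 K with hJd
  set L := τ.Sb K with hLd
  have hm : ∀ u ∈ L, A • k.1 u ∈ L := fun u hu => by
    obtain ⟨c, hc, hu⟩ := hu
    obtain ⟨c', hc', e, -⟩ := τ.conj_sh hy u c hc
    have h1 := K.mul_mem (K.mul_mem hK hu) (K.inv_mem hK)
    rw [e] at h1
    rw [← hpr u]
    exact ⟨_, _, h1⟩
  have hreal : ∀ u ∈ L, ∀ v ∈ L, θ (τ.BW u v) = τ.BW u v := fun u hu v hv => real_of_bot τ K hZ hu hv
  have hneg : ∀ z : τ.W, -z = z := fun z => by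
    rw [← neg_one_smul F z, show (-1 : F) = 1 by linear_combination -h2, one_smul]
  have hself : ∀ z : τ.W, z + z = 0 := fun z => by nth_rw 2 [← hneg z]; exact add_neg_cancel z
  have hkx : ∀ (u x : τ.W), A • k.1 u = x → k.1 u = (A * A) • x := fun u x e => by
    rw [← e, smul_smul, h3, one_smul]
  have hm0' : ∀ u : τ.W, u ≠ 0 → A • k.1 u ≠ 0 := fun u hu =>
    smul_ne_zero hA0 fun e => hu (k.1.map_eq_zero_iff.1 e)
  obtain ⟨t, ht, ht1⟩ : ∃ t ∈ J, t ≠ 1 := by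
    by_contra hc; push Not at hc; exact hJ ((Subgroup.eq_bot_iff_forall _).2 hc)
  -- every vector is isotropic
  have hiso : ∀ u ∈ L, τ.BW u u = 0 := fun u hu => by
    by_contra huu
    have hu1 := (fix_cases hq (hreal u hu u hu)).resolve_left huu
    set v := t.1 u with hv
    have hvL : v ∈ L := τ.Sb_inv_I1 K ht hu
    have hvv : τ.BW v v = 1 := by rw [hv, t.2.1]; exact hu1
    have huv : u ≠ v := fun e => ht1 (eq_one_of_fix_aniso τ.hB_W hd huu e.symm)
    have hu0 : u ≠ 0 := fun e => huu (by simp [e])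
    have hv0 : v ≠ 0 := fun e => hu0 (t.1.map_eq_zero_iff.1 e)
    have hs : u + v ≠ 0 := fun e => huv (by rw [eq_neg_of_add_eq_zero_left e, hneg])
    have hxx : τ.BW (u + v) (u + v) = 0 := by
      simp only [map_add, LinearMap.add_apply, hu1, hvv, ← τ.hB_W.symm v u, hreal v hvL u hu]
      linear_combination (1 + τ.BW v u) * h2
    have hx : A • k.1 (u + v) = u + v := by
      rcases mem_four hL hu hvL hu0 hv0 huv hs (hm _ (L.add_mem hu hvL)) with e | e | e | e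
      · exact absurd e (hm0' _ hs)
      all_goals first
        | exact e
        | (exfalso
           have := congrArg (fun z => τ.BW z z) e
           simp only [Herm.smul_self τ.hB_W, k.2.1, hxx, mul_zero, hu1, hvv] at this
           exact zero_ne_one this)
    obtain ⟨ρ, hρ⟩ := exists_frame τ.hB_W hs hxx
    exact no_twist hq ρ hd hA0 hA1 (by rw [hρ]; exact hkx _ _ hx)
  obtain ⟨x, hxL, hx0⟩ : ∃ x ∈ L, x ≠ 0 := by
    by_contra hc
    push Not at hc
    rw [(AddSubgroup.eq_bot_iff_forall _).2 hc, AddSubgroup.card_bot] at hL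
    omega
  obtain ⟨ρ, rfl⟩ := exists_frame τ.hB_W hx0 (hiso x hxL)
  by_cases hline : ∀ v ∈ L, τ.BW ρ.y v = 0
  · have hfull : ∀ v, v ∈ L ↔ τ.BW ρ.y v = 0 :=
      (line_sub ρ hd L hline).resolve_right fun hc => by rw [hL, hq] at hc; omega
    have hcoef : ∀ v ∈ L, v = τ.BW ρ.f v • ρ.y := fun v hv => by
      conv_lhs => rw [decomp2 ρ hd v, hline v hv, zero_smul, add_zero]
    refine ⟨ρ, hfull, Subgroup.eq_of_le_of_card_ge (fun g hg => ?_) ?_, fun β => ?_⟩
    · have e := hcoef _ (τ.Sb_inv_I1 K hg hxL)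
      exact ⟨Units.mk0 (τ.BW ρ.f (g.1 ρ.y)) fun h0 => ρ.y_ne (g.1.map_eq_zero_iff.1 (by rw [e, h0, zero_smul])), e⟩
    · rw [card_P ρ hd, hq]
      exact (Subgroup.one_lt_card_iff_ne_bot _).2 hJ
    · obtain ⟨μ, hμ⟩ : ∃ μ, k.1 ρ.y = μ • ρ.y := ⟨A * A * τ.BW ρ.f (A • k.1 ρ.y), by
        rw [mul_smul (A * A)]; exact hkx _ _ (hcoef _ (hm _ hxL))⟩
      have hμ1 := (fix_cases hq (aval_fix ρ hd hμ)).resolve_left fun e =>
        ρ.y_ne (k.1.map_eq_zero_iff.1 (by rw [hμ, e, zero_smul]))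
      rw [hpr, map_smul, hμ, hμ1, one_smul, smul_smul]
  exfalso
  push Not at hline
  obtain ⟨z, hz, hxz⟩ := hline
  have hxz1 := (fix_cases hq (hreal _ hxL z hz)).resolve_left hxz
  have hzx1 : τ.BW z ρ.y = 1 := by rw [← τ.hB_W.symm, hxz1, map_one]
  have hzz := hiso z hz
  have hz0 : z ≠ 0 := fun e => hxz (by simp [e])
  have hne : ρ.y ≠ z := fun e => hxz (by rw [← e]; exact ρ.hyy)
  have hs : ρ.y + z ≠ 0 := fun e => hne (by rw [eq_neg_of_add_eq_zero_left e, hneg])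
  have hss : τ.BW (ρ.y + z) (ρ.y + z) = 0 := hiso _ (L.add_mem hxL hz)
  obtain ⟨w, k', hw, hk'⟩ : ∃ (w : τ.W) (k' : Herm.suG τ.BW), A • k.1 ρ.y = w ∧ k'.1 w = ρ.y := by
    refine ⟨A • k.1 ρ.y, ?_⟩
    obtain ⟨π, hπ⟩ := exists_frame τ.hB_W hs hss
    obtain ⟨π', hπ'⟩ := exists_frame τ.hB_W hz0 hzz
    rcases mem_four hL hxL hz ρ.y_ne hz0 hne hs (hm _ hxL) with e | e | e | e
    · exact absurd e (hm0' _ ρ.y_ne)
    · exact ⟨1, rfl, e⟩
    · refine ⟨π.tvc ⟨1, one_skew hθ hq⟩, rfl, ?_⟩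
      rw [e, tvc_apply π hd, hπ]
      simp only [map_add, LinearMap.add_apply, hxz1, hzz, add_zero, mul_one, one_smul]
      rw [add_comm ρ.y, ← add_assoc, hself, zero_add]
    · refine ⟨π'.tvc ⟨1, one_skew hθ hq⟩, rfl, ?_⟩
      rw [e, tvc_apply π' hd, hπ']
      simp only [map_add, hzx1, hzz, add_zero, mul_one, one_smul]
      rw [add_assoc, hself, add_zero]
  refine no_twist hq ρ hd hA0 hA1 (k := k' * k) ?_
  rw [Subgroup.coe_mul, LinearEquiv.mul_apply, hkx _ _ hw, map_smul, hk']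

end Cfsg.Agent.MinIndexForm.SUF
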